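import Cfsg.Agent.SE.Gen

/-! # CIT groups: basics, parabolic-like 2-local subgroups, failure of factorization -/

set_option autoImplicit false
set_option linter.unusedVariables false
set_option linter.unusedSectionVars false

namespace Cfsg.Agent.CIT
open Cfsg Cfsg.Agent.BG Cfsg.Agent.Inv Cfsg.Agent.SE Subgroup
open scoped commutatorElement

variable {G : Type*} [Group G] [Finite G] {G' : Type*} [Group G'] [Finite G']
variable {A B D E H K L M R R' S T U V W X Y : Subgroup G} {a a' b c g h r s t u v w x y z : G} {q : ℕ}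

theorem p2 : Nat.Prime 2 := Nat.prime_two

def IsCIT (G : Type*) [Group G] : Prop :=
  ∀ x y : G, PiE {2} x → x ≠ 1 → PiE {2}ᶜ y → x * y = y * x → y = 1

theorem pie_odd : PiE {2}ᶜ x ↔ Odd (orderOf x) := by
  rw [PiE, pin_compl p2, ← Nat.not_even_iff_odd, even_iff_two_dvd]

theorem pie_sq (h : x * x = 1) : PiE {2} x := pie_of_pow p2 (by rwa [sq])

theorem PiG.exists_inv (h : PiG {2} X) (h1 : X ≠ ⊥) : ∃ t ∈ X, orderOf t = 2 := cauchy p2 (h.dvd h1)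

theorem cit_of (h : ∀ t : G, orderOf t = 2 → IsPGroup 2 (centralizer ({t} : Set G))) : IsCIT G := by
  intro x y hx x1 hy e
  obtain ⟨t, ht, t2⟩ := PiG.exists_inv (pig_zpowers.2 hx) (by simpa using x1)
  exact ((pig_of_pg p2 (h t t2)).elt (C1_le_of_mem_zpowers ht (mem_C1.2 e.symm))).eq_one hy

theorem IsCIT.pigC1 (h : IsCIT G) (hx : PiE {2} x) (x1 : x ≠ 1) : PiG {2} C1[x] := by
  refine pig_of_elts fun y hy => ?_
  obtain ⟨a, ha, b, hb, e, h1, h2⟩ := exists_pi_part {2} y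
  have := h x b hx x1 h2 (mem_C1.1 (zpowers_le.2 hy hb)).symm
  rwa [e, this, mul_one]

theorem IsCIT.pigC (h : IsCIT G) (hX : PiG {2} X) (h1 : X ≠ ⊥) : PiG {2} C[X] := by
  obtain ⟨x, hx, x1⟩ := exists_mem_ne_one h1
  exact (h.pigC1 (hX.elt hx) x1).of_le (C_le_C1 hx)

theorem IsCIT.elt (h : IsCIT G) (y : G) : PiE {2} y ∨ PiE {2}ᶜ y := by
  obtain ⟨a, ha, b, hb, e, h1, h2⟩ := exists_pi_part {2} y
  by_cases a1 : a = 1
  · right; rwa [e, a1, one_mul]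
  · left; rwa [e, h a b h1 a1 h2 (zpowers_comm ha hb), mul_one]

theorem IsCIT.eq_one (h : IsCIT G) (hx : PiE {2} x) (hy : PiE {2}ᶜ y) (y1 : y ≠ 1) (e : x * y = y * x) : x = 1 := by
  by_contra x1; exact y1 (h x y hx x1 hy e)

theorem IsCIT.inf_bot (h : IsCIT G) (hX : PiG {2} X) (hy : PiE {2}ᶜ y) (y1 : y ≠ 1) : X ⊓ C1[y] = ⊥ :=
  (eq_bot_iff_forall _).2 fun x hx => h.eq_one (hX.elt hx.1) hy y1 (mem_C1.1 hx.2)

theorem exists_lift (φ : PHom G G') (hs : φ.im φ.dom = ⊤) {y : G'} {π : Set ℕ} (hy : PiE π y) :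
    ∃ x ∈ φ.dom, PiE π x ∧ φ.app x = y := by
  obtain ⟨x, hx, e⟩ := (PHom.mem_im' le_rfl).1 (hs.ge (mem_top y))
  obtain ⟨a, ha, b, hb, e', h1, h2⟩ := exists_pi_part π x
  have ha' := zpowers_le.2 hx ha
  have hb' := zpowers_le.2 hx hb
  refine ⟨a, ha', h1, ?_⟩
  have c : φ.app a * φ.app b = φ.app b * φ.app a := by
    rw [← φ.app_mul ha' hb', ← φ.app_mul hb' ha', zpowers_comm ha hb]
  rw [← cst_self hy, ← e, e', φ.app_mul ha' hb', cst_eq (h1.app ha') (h2.app hb') c]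

theorem IsCIT.im (h : IsCIT G) (φ : PHom G G') (hk : PiG {2} φ.ker) (hs : φ.im φ.dom = ⊤) : IsCIT G' := by
  intro x y hx x1 hy e
  obtain ⟨k, hk1, hk2, rfl⟩ := exists_lift φ hs hy
  by_cases k1 : k = 1
  · rw [k1, φ.app_one]
  have := im_IC' (φ := φ) (A := zpowers k) (H := φ.dom) (zpowers_le.2 hk1) le_rfl φ.ker_le_dom
    (PiN.coprime' (pig_zpowers.2 hk2) hk) (.inr hk.sol)
  rw [hs, PHom.im_zpowers hk1, C_zpowers, C_zpowers] at this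
  obtain ⟨z, hz, e'⟩ := (PHom.mem_im' inf_le_left).1 (this.ge ⟨mem_top x, mem_C1.2 e⟩)
  rcases h.elt z with h1 | h1
  · rw [h.eq_one h1 hk2 k1 (mem_C1.1 hz.2), φ.app_one] at e'
    exact absurd e'.symm x1
  · exact absurd (hx.eq_one (e' ▸ h1.app hz.1)) x1

theorem conj_ne (x1 : x ≠ 1) (g : G) : g * x * g⁻¹ ≠ 1 := fun e => x1 (by simpa using e)

/-! ### counting through maps -/

theorem idx_aux (f : G → G) (h1 : ∀ x ∈ K, f x ∈ L) (h2 : ∀ x ∈ K, ∀ y ∈ K, f x = f y → x⁻¹ * y ∈ M) :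
    ∃ F : K ⧸ M.subgroupOf K → L, Function.Injective F ∧ ∀ c, ∃ x ∈ K, f x = F c :=
  ⟨fun c => ⟨f c.out, h1 _ c.out.2⟩, fun c d e => by
    rw [← c.out_eq, ← d.out_eq]
    exact QuotientGroup.eq.2 (h2 _ c.out.2 _ d.out.2 (congrArg Subtype.val e)), fun c => ⟨_, c.out.2, rfl⟩⟩

theorem idx_le (f : G → G) (h1 : ∀ x ∈ K, f x ∈ L) (h2 : ∀ x ∈ K, ∀ y ∈ K, f x = f y → x⁻¹ * y ∈ M) :
    M.relIndex K ≤ #L := by
  obtain ⟨F, hF, -⟩ := idx_aux f h1 h2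
  exact Nat.card_le_card_of_injective F hF

theorem idx_surj (f : G → G) (h1 : ∀ x ∈ K, f x ∈ L) (h2 : ∀ x ∈ K, ∀ y ∈ K, f x = f y → x⁻¹ * y ∈ M)
    (h3 : #L ≤ M.relIndex K) (hy : y ∈ L) : ∃ x ∈ K, f x = y := by
  obtain ⟨F, hF, hF'⟩ := idx_aux f h1 h2
  obtain ⟨c, hc⟩ := ((Nat.bijective_iff_injective_and_card F).2
    ⟨hF, le_antisymm (Nat.card_le_card_of_injective F hF) h3⟩).2 ⟨y, hy⟩
  obtain ⟨x, hx, e⟩ := hF' c
  exact ⟨x, hx, by rw [e, hc]⟩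

theorem comm_inj (e : x * g * x⁻¹ * g⁻¹ = y * g * y⁻¹ * g⁻¹) : y⁻¹ * x ∈ C1[g] := by
  rw [mem_C1]
  calc y⁻¹ * x * g = y⁻¹ * (x * g * x⁻¹ * g⁻¹) * (g * x) := by group
    _ = g * (y⁻¹ * x) := by rw [e]; group

theorem comm_inj' (e : g * x * g⁻¹ * x⁻¹ = g * y * g⁻¹ * y⁻¹) : x⁻¹ * y ∈ C1[g] := by
  rw [mem_C1]
  calc x⁻¹ * y * g = g * x⁻¹ * (x * g⁻¹ * x⁻¹ * g) * g⁻¹ * y * g := by group
    _ = g * x⁻¹ * (g⁻¹ * (g * x * g⁻¹ * x⁻¹) * g) * g⁻¹ * y * g := by group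
    _ = g * (x⁻¹ * y) := by rw [e]; group

/-- a nontrivial element of odd order centralizing `K / L` forces `K ≤ L` -/
theorem IsCIT.le_of_comm (h : IsCIT G) (hK : PiG {2} K) (hL : L ≤ K) (hx : PiE {2}ᶜ x) (x1 : x ≠ 1)
    (hc : ∀ y ∈ K, y * x * y⁻¹ * x⁻¹ ∈ L) : K ≤ L := by
  have := idx_le (K := K) (L := L) (M := ⊥) (fun y => y * x * y⁻¹ * x⁻¹) hc fun y hy z hz e =>
    (h.inf_bot hK hx x1).le (mem_inf.2 ⟨mul_mem (inv_mem hy) hz, comm_inj e.symm⟩)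
  rw [relIndex_bot_left] at this
  exact (eq_of_card_le hL this).ge

theorem comm_mul_mem (h1 : y * a * y⁻¹ * a⁻¹ ∈ L) (h2 : y * b * y⁻¹ * b⁻¹ ∈ L) (ha : a ∈ N[L]) :
    y * (a * b) * y⁻¹ * (a * b)⁻¹ ∈ L := by
  have := mul_mem h1 (conj_mem ha h2)
  convert this using 1; group

theorem exists_sq (hr : PiE {2} r) (h : r ∉ D) : ∃ a ∈ zpowers r, a ∉ D ∧ a * a ∈ D := by
  classical
  have ex : ∃ k, r ^ 2 ^ k ∈ D := by
    obtain ⟨k, hk⟩ := hr.pow_eq_one p2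
    exact ⟨k, hk ▸ one_mem D⟩
  have h1 := Nat.find_spec ex
  obtain ⟨k, hk⟩ : ∃ k, Nat.find ex = k + 1 :=
    Nat.exists_eq_succ_of_ne_zero fun e => h (by simpa [e] using h1)
  refine ⟨r ^ 2 ^ k, npow_mem_zpowers _ _, Nat.find_min ex (by omega), ?_⟩
  rwa [hk, pow_succ, pow_mul, sq] at h1

/-! ### parabolic-like subgroups -/

scoped notation:max "DD " H:max => Cfsg.piCoreOf ({2} : Set ℕ) H
def VV (H : Subgroup G) : Subgroup G := Ω[2](Z[DD H])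

theorem cj_VV (g : G) (H : Subgroup G) : cj g (VV H) = VV (cj g H) := by
  rw [VV, VV, cj_Om, cj_inf, cj_C, cj_O]
theorem V_ab (H : Subgroup G) : Abelem 2 (VV H) := OmZ_abelem _ _
theorem V_le (H : Subgroup G) : VV H ≤ DD H := OmZ_le _ _
theorem V_cent (H : Subgroup G) : VV H ≤ C[DD H] := OmZ_cent _ _
theorem V_norm (H : Subgroup G) : H ≤ N[VV H] := normOmZ _ (O_norm _ _)
theorem V_pig (H : Subgroup G) : PiG {2} (VV H) := (O_pig _ _).of_le (V_le H)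
theorem V_sq (hv : v ∈ VV H) : v * v = 1 := by rw [← sq]; exact (V_ab H).pow _ hv
theorem V_comm (hv : v ∈ VV H) (hw : w ∈ VV H) : v * w = w * v := mem_C_comm (V_ab H).abel hv hw
theorem V_ne (h : DD H ≠ ⊥) : VV H ≠ ⊥ := (O_pig _ _).OmZ_ne_bot h
theorem mem_V (h1 : v ∈ DD H) (h2 : v ∈ C[DD H]) (h3 : v * v = 1) : v ∈ VV H := mem_Om ⟨h1, h2⟩ (by rwa [sq])

theorem C_V (h : IsCIT G) (h1 : DD H ≠ ⊥) : H ⊓ C[VV H] ≤ DD H :=
  le_O inf_le_left (normI (normG H) (normC (V_norm H))) ((h.pigC (V_pig H) (V_ne h1)).of_le inf_le_right)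

structure Par (H : Subgroup G) : Prop where
  cit : IsCIT G
  ne : DD H ≠ ⊥
  max : ∀ K, DD K ≠ ⊥ → H ≤ K → K = H
  ti : ∀ R R', Syl 2 R H → Syl 2 R' H → R ≠ R' → R ⊓ R' ≤ DD H
  two : ∀ R, Syl 2 R H → ¬ H ≤ N[R]

theorem loc_N (hY : PiG {2} Y) (h1 : Y ≠ ⊥) : DD N[Y] ≠ ⊥ :=
  fun e => h1 (eq_bot_iff.2 (e ▸ le_O (normG Y) le_rfl hY))

namespace Par
variable (P : Par H)
include P

theorem cjj (g : G) : Par (cj g H) where
  cit := P.cit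
  ne := by rw [← cj_O, Ne, cj_eq_bot]; exact P.ne
  max K h1 h2 := by
    rw [← P.max (cj g⁻¹ K) (by rwa [← cj_O, Ne, cj_eq_bot]) (cj_le_iff.1 h2), cj_cj_inv]
  ti R R' h1 h2 h3 := by
    rw [← cj_O, le_cj_iff, cj_inf]
    exact P.ti _ _ (by simpa [cj_inv_cj] using h1.cj g⁻¹) (by simpa [cj_inv_cj] using h2.cj g⁻¹)
      (mt cj_eq_cj.1 h3)
  two R h1 h2 := P.two (cj g⁻¹ R) (by simpa [cj_inv_cj] using h1.cj g⁻¹)
    (by rwa [← norm_cj (g := g), cj_cj_inv])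

theorem N_eq (hY : PiG {2} Y) (h1 : Y ≠ ⊥) (h2 : H ≤ N[Y]) : N[Y] = H := P.max _ (loc_N hY h1) h2
theorem NV : N[VV H] = H := P.N_eq (V_pig H) (V_ne P.ne) (V_norm H)
theorem CV : C[VV H] = DD H :=
  le_antisymm (le_trans (le_inf ((C_le_N _).trans P.NV.le) le_rfl) (C_V P.cit P.ne)) (cent_symm (V_cent H))

theorem other (hR : Syl 2 R H) : ∃ h ∈ H, cj h R ≠ R := by
  by_contra e
  push Not at e
  exact P.two R hR fun h hh => mem_N_iff_cj.2 (e h hh)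

theorem eq_of_mem (hR : Syl 2 R H) (hR' : Syl 2 R' H) (h1 : a ∈ R) (h2 : a ∈ R') (h3 : a ∉ DD H) : R = R' := by
  by_contra e; exact h3 (P.ti R R' hR hR' e ⟨h1, h2⟩)

theorem exists_not (hR : Syl 2 R H) : ∃ a ∈ R, a ∉ DD H ∧ a * a ∈ DD H := by
  have : ¬ R ≤ DD H := fun e => P.two R hR (by rw [le_antisymm e hR.O_le]; exact O_norm _ _)
  obtain ⟨r, h1, h2⟩ := SetLike.not_le_iff_exists.1 this
  obtain ⟨a, ha, h3⟩ := exists_sq (hR.pi.elt h1) h2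
  exact ⟨a, zpowers_le.2 h1 ha, h3⟩

theorem conj_not (hg : g ∈ H) (ha : a ∉ DD H) : g * a * g⁻¹ ∉ DD H :=
  fun e => ha ((mem_N.1 (O_norm _ _ hg) a).2 e)

/-- the basic oddness property -/
theorem odd (hR : Syl 2 R H) (hR' : Syl 2 R' H) (n : R ≠ R') (h1 : a ∈ R) (h2 : a' ∈ R') (h3 : a ∉ DD H)
    (h4 : a' ∉ DD H) (h5 : a * a ∈ DD H) (h6 : a' * a' ∈ DD H) : PiE {2}ᶜ (a * a') ∧ a * a' ≠ 1 := by
  have key : ¬ PiE {2} (a * a') := fun e => by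
    have aH := hR.le h1
    have cH := mul_mem aH (hR'.le h2)
    have nD := O_norm {2} H
    have t1 : PiG {2} (DD H ⊔ zpowers (a * a')) :=
      (O_pig _ _).sup_l (pig_zpowers.2 e) (zpowers_le.2 (nD cH))
    have n1 : a ∈ N[DD H ⊔ zpowers (a * a')] := by
      refine mem_N_of_cj_le ?_
      rw [cj_sup, cj_of_mem_N (nD aH), cj_zpowers]
      refine sup_le le_sup_left (zpowers_le.2 ?_)
      have := mul_mem_sup' (mul_mem h5 h6) (inv_mem (mem_zpowers (a * a')))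
      convert this using 1; group
    have t2 := t1.sup_l (pig_zpowers.2 (hR.pi.elt h1)) (zpowers_le.2 n1)
    obtain ⟨T, hT, le⟩ := syl_superset p2 (sup_le (sup_le (O_le _ _) (zpowers_le.2 cH)) (zpowers_le.2 aH)) t2
    have m1 : a ∈ T := le (mem_sup_right (mem_zpowers a))
    have m2 : a' ∈ T := by
      have := mul_mem (inv_mem m1) (le (mem_sup_left (mem_sup_right (mem_zpowers (a * a')))))
      rwa [inv_mul_cancel_left] at this
    exact n ((P.eq_of_mem hR hT h1 m1 h3).trans (P.eq_of_mem hT hR' m2 h2 h4))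
  exact ⟨(P.cit.elt _).resolve_left key, fun e => key (e ▸ pie_one _)⟩

theorem inf_bot (hR : Syl 2 R H) (hR' : Syl 2 R' H) (n : R ≠ R') (h1 : a ∈ R) (h2 : a' ∈ R') (h3 : a ∉ DD H)
    (h4 : a' ∉ DD H) (h5 : a * a ∈ DD H) (h6 : a' * a' ∈ DD H) (hY : PiG {2} Y) :
    Y ⊓ C1[a] ⊓ C1[a'] = ⊥ := by
  obtain ⟨o, o1⟩ := P.odd hR hR' n h1 h2 h3 h4 h5 h6
  exact eq_bot_iff.2 fun y hy => (P.cit.inf_bot hY o o1).le
    ⟨hy.1.1, C1_symm (mul_mem (C1_symm hy.1.2) (C1_symm hy.2))⟩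

/-- an involution outside `O₂(H)` -/
theorem exists_inv (hR : Syl 2 R H) : ∃ a ∈ R, a ∉ DD H ∧ orderOf a = 2 := by
  obtain ⟨a, h1, h3, h5⟩ := P.exists_not hR
  obtain ⟨h, hh, n⟩ := P.other hR
  have nD := O_norm {2} H
  have h6 : h * a * h⁻¹ * (h * a * h⁻¹) ∈ DD H := by
    have := conj_mem (nD hh) h5
    convert this using 1; group
  obtain ⟨o, o1⟩ := P.odd hR (hR.cj_mem hh) n.symm h1 (mem_cj_conj.2 h1) h3 (P.conj_not hh h3) h5 h6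
  have aH := hR.le h1
  set a' := h * a * h⁻¹
  have cH : a * a' ∈ H := mul_mem aH (conj_mem (normG H hh) aH)
  have n1 : a ∈ N[DD H ⊔ zpowers (a * a')] := by
    refine mem_N_of_cj_le ?_
    rw [cj_sup, cj_of_mem_N (nD aH), cj_zpowers]
    refine sup_le le_sup_left (zpowers_le.2 ?_)
    have := mul_mem_sup' (mul_mem h5 h6) (inv_mem (mem_zpowers (a * a')))
    convert this using 1; group
  have pr := isProd_l (A := DD H) (zpowers_le.2 (nD cH))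
  have hl : Hall {2}ᶜ (zpowers (a * a')) (DD H ⊔ zpowers (a * a')) :=
    pr.hall_r (PiN.compl_compl (O_pig _ _)) (pig_zpowers.2 o)
  obtain ⟨l, hl', n, hn, e⟩ := (hl.frattini ((O_pig _ _).sol.sup_l (cyc_zpowers _).sol (zpowers_le.2 (nD cH)))
    (normG _) le_rfl).ex a n1
  obtain ⟨d, hd, k, hk, rfl⟩ := pr.ex l hl'
  have b1 : d⁻¹ * a ∈ R := mul_mem (inv_mem (hR.O_le hd)) h1
  have b2 : d⁻¹ * a ∉ DD H := fun e' => h3 (by simpa using mul_mem hd e')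
  have b3 : d⁻¹ * a ∈ N[zpowers (a * a')] := by
    rw [show d⁻¹ * a = k * n by rw [inv_mul_eq_iff_eq_mul, ← mul_assoc]; exact e]
    exact mul_mem (normG _ hk) hn.2
  have b4 : d⁻¹ * a * (d⁻¹ * a) ∈ DD H := by
    have := mul_mem (mul_mem (inv_mem hd) (conj_mem (nD aH) (inv_mem hd))) h5
    convert this using 1; group
  refine ⟨_, b1, b2, ord2_iff.2 ⟨?_, fun e' => b2 (e' ▸ one_mem _)⟩⟩
  have := inf_N_eq_inf_C (A := zpowers (a * a')) (K := DD H) (zpowers_le.2 (nD cH))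
    ((pig_zpowers.2 o).inf_bot' (O_pig _ _))
  rw [C_zpowers, P.cit.inf_bot (O_pig _ _) o o1] at this
  exact this.le ⟨b4, mul_mem b3 b3⟩

theorem C1_le (hR : Syl 2 R H) (hu : u ∈ C[R]) (u2 : PiE {2} u) (u1 : u ≠ 1) : H ⊓ C1[u] ≤ R :=
  (hR.max ((P.cit.pigC1 u2 u1).of_le inf_le_right) inf_le_left (le_inf hR.le (le_C1_iff.2 hu))).le

theorem comm_mem_W (ha : a ∈ H) (h5 : a * a ∈ DD H) (hv : v ∈ VV H) : v * a * v⁻¹ * a⁻¹ ∈ VV H ⊓ C1[a] := by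
  have m := conj_mem (V_norm H ha) (inv_mem hv)
  refine ⟨by simpa [mul_assoc] using mul_mem hv m, mem_C1.2 ?_⟩
  have c1 := mem_C.1 (V_cent H (inv_mem hv)) _ h5
  have c2 := V_comm (conj_mem (V_norm H ha) hv) (inv_mem hv)
  have i : v⁻¹ = v := inv_eq_of_mul_eq_one_left (V_sq hv)
  rw [i] at c1 c2 ⊢
  calc v * a * v * a⁻¹ * a = v * (a * v * a⁻¹) * a := by group
    _ = a * v * a⁻¹ * (v * (a * a)) * a⁻¹ := by rw [← c2]; group
    _ = a * (v * a * v * a⁻¹) := by rw [← c1]; group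

theorem card_W (hR : Syl 2 R H) (h1 : a ∈ R) (h3 : a ∉ DD H) (h5 : a * a ∈ DD H) :
    #(VV H) = #(VV H ⊓ C1[a]) * #(VV H ⊓ C1[a]) := by
  apply le_antisymm
  · rw [← card_inf_mul_relIndex C1[a] (VV H), inf_comm]
    exact Nat.mul_le_mul_left _ (idx_le (fun v => v * a * v⁻¹ * a⁻¹) (fun v hv => P.comm_mem_W (hR.le h1) h5 hv)
      fun x hx y hy e => comm_inj e.symm)
  · obtain ⟨h, hh, n⟩ := P.other hR
    have h6 : h * a * h⁻¹ * (h * a * h⁻¹) ∈ DD H := by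
      have := conj_mem (O_norm {2} H hh) h5
      convert this using 1; group
    have b := P.inf_bot hR (hR.cj_mem hh) n.symm h1 (mem_cj_conj.2 h1) h3 (P.conj_not hh h3) h5 h6 (V_pig H)
    have e : #(VV H ⊓ C1[h * a * h⁻¹]) = #(VV H ⊓ C1[a]) := by
      rw [← cj_C1, ← card_cj h (VV H ⊓ C1[a]), cj_inf, cj_of_mem_N (V_norm H hh)]
    have pr := (isProd_l (A := VV H ⊓ C1[a]) (B := VV H ⊓ C1[h * a * h⁻¹])
      (inf_le_left.trans (abel_norm (V_ab H).abel inf_le_left))).card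
    rw [← inf_assoc, inf_right_comm (VV H), inf_idem, b, card_bot', mul_one, e] at pr
    rw [← pr]
    exact card_le (sup_le inf_le_left inf_le_left)

theorem U_inf (hR : Syl 2 R H) (hR' : Syl 2 R' H) (n : R ≠ R') (hu : u ∈ C[R]) (hu' : u ∈ C[R'])
    (u2 : PiE {2} u) : u = 1 := by
  by_contra u1
  exact n (hR'.eq_of_le hR (le_trans (le_inf hR'.le (le_C1_iff.2 hu')) (P.C1_le hR hu u2 u1))).symm

end Par

end Cfsg.Agent.CIT
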