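import Mathlib

/-! # CIT groups: a finite check -/

set_option autoImplicit false

namespace Cfsg.Agent.CIT

def chk (m c j : ℕ) : Bool := !(decide (0 < m) && (315 + 960 * m) % c == 0 && decide (15 * m < (315 + 960 * m) / c) &&
    ((315 + 960 * m) / c - 1) % 2 ^ (j + 1) == 0 && 64 * c % 2 ^ (j + 1) == 0 &&
    64 * c / 2 ^ (j + 1) % ((315 + 960 * m) / c) == 1 && 64 * c / 2 ^ (j + 1) != 1) ||
    ((315 + 960 * m) / c == 165 && j == 1)

theorem arith_fin : ∀ m < 138, ∀ c < 86, ∀ j < 6, chk m c j = true := by decide +kernel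

theorem arith {m b n k : ℕ} (hm : 0 < m) (hb : 15 * m < b) (h1 : n ∣ 64) (h2 : 2 ∣ n) (h3 : n ∣ b - 1) (hk : 0 < k)
    (h : 64 * (315 + 960 * m) = b * n * (1 + k * b)) : b = 165 ∧ n = 4 := by
  obtain ⟨j, hj, rfl⟩ := (Nat.dvd_prime_pow Nat.prime_two (m := 6)).1 h1
  obtain ⟨j, rfl⟩ : ∃ i, j = i + 1 := Nat.exists_eq_succ_of_ne_zero (by rintro rfl; simp at h2)
  have o : Nat.Coprime b (2 ^ 6) := Nat.Coprime.pow_right _ ((Nat.coprime_two_right).2 (Nat.odd_iff.2 (by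
    have := h2.trans h3; omega)))
  obtain ⟨c, hc⟩ : b ∣ 315 + 960 * m := o.dvd_of_dvd_mul_left ⟨_, h.trans (mul_assoc _ _ _)⟩
  have b0 : 0 < b := by omega
  have e : 64 * c = 2 ^ (j + 1) * (1 + k * b) := Nat.eq_of_mul_eq_mul_left b0 (by
    rw [← mul_assoc, ← mul_assoc, ← h, hc]; ring)
  have c0 : 0 < c := by rcases c with _ | c <;> omega
  have l : 2 * (1 + b) ≤ 64 * c := by
    rw [e]; exact Nat.mul_le_mul (Nat.le_of_dvd (by positivity) h2) (by nlinarith)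
  have d1 : (315 + 960 * m) / c = b := by rw [hc, Nat.mul_div_cancel _ c0]
  have d2 : 64 * c / 2 ^ (j + 1) = 1 + k * b := by rw [e, Nat.mul_div_cancel_left _ (by positivity)]
  have := arith_fin m (by nlinarith) c (by nlinarith) j (by omega)
  rw [chk, d1, d2, hc, e, Nat.mul_mod_left, Nat.mul_mod_right, Nat.mod_eq_zero_of_dvd h3, Nat.add_mul_mod_self_right,
    Nat.mod_eq_of_lt (by omega : 1 < b)] at this
  simp [hm, hb, hk.ne', b0.ne'] at this
  exact ⟨this.1, by rw [this.2]; rfl⟩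

end Cfsg.Agent.CIT
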