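import Cfsg.Agent.CIT.FF

/-! # CIT groups: the amalgam of two parabolic-like subgroups -/

set_option autoImplicit false
set_option linter.unusedVariables false
set_option linter.unusedSectionVars false

namespace Cfsg.Agent.CIT
open Cfsg Cfsg.Agent.BG Cfsg.Agent.Inv Cfsg.Agent.SE Subgroup
open scoped commutatorElement

def LA (G : Type*) [Group G] : Prop :=
  ∀ H R R' : Subgroup G, DD H ≠ ⊥ → Syl 2 R H → Syl 2 R' H → R ≠ R' → R ⊓ R' ≤ DD H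

variable {G : Type*} [Group G] [Finite G]
variable {A B D E H H1 H2 K L M R R' R1 R2 S S1 S2 T U V W X Y : Subgroup G}
  {a a' b c g h r s t u u' v w x y z : G} {q n m : ℕ}

theorem lemM (hc : IsCIT G) (la : LA G) (p : Subgroup G → Prop) (h1 : Syl 2 S1 ⊤) (h2 : Syl 2 S2 ⊤)
    (ne : S1 ⊓ S2 ≠ ⊥) (p1 : p S1) (q2 : ¬ p S2) : ∃ H R1 R2 S3 S4 : Subgroup G, Par H ∧ Syl 2 R1 H ∧ Syl 2 R2 H ∧
      Syl 2 S3 ⊤ ∧ Syl 2 S4 ⊤ ∧ R1 ≤ S3 ∧ R2 ≤ S4 ∧ p S3 ∧ ¬ p S4 := by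
  obtain ⟨⟨S1, S2⟩, ⟨h1, h2, ne, p1, q2⟩, mx⟩ := exists_max_of (fun x : Subgroup G × Subgroup G =>
    Syl 2 x.1 ⊤ ∧ Syl 2 x.2 ⊤ ∧ x.1 ⊓ x.2 ≠ ⊥ ∧ p x.1 ∧ ¬ p x.2) (fun x => #(x.1 ⊓ x.2)) (A := (S1, S2))
    ⟨h1, h2, ne, p1, q2⟩
  dsimp only at h1 h2 ne p1 q2
  have mx' : ∀ A B, Syl 2 A ⊤ → Syl 2 B ⊤ → S1 ⊓ S2 < A ⊓ B → p A → p B := fun A B a1 a2 a3 a4 => by
    by_contra a5
    exact absurd (mx (A, B) ⟨a1, a2, ne_bot_of_gt a3, a4, a5⟩) (not_le.2 (card_lt a3))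
  have n : S1 ≠ S2 := fun e => q2 (e ▸ p1)
  have l1 := h1.pi.nil.lt_norm (lt_of_le_of_ne (inf_le_left : S1 ⊓ S2 ≤ S1)
    fun e => n (h1.eq_of_le h2 (e.ge.trans inf_le_right)))
  have l2 := h2.pi.nil.lt_norm (lt_of_le_of_ne (inf_le_right : S1 ⊓ S2 ≤ S2)
    fun e => n (h2.eq_of_le h1 (e.ge.trans inf_le_left)).symm)
  obtain ⟨H, hH, ne', mH⟩ := exists_maximal (P := fun K : Subgroup G => DD K ≠ ⊥)
    (loc_N (h1.pi.of_le inf_le_left) ne)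
  obtain ⟨R1, r1, r1'⟩ := syl_superset p2 (inf_le_right.trans hH) (h1.pi.of_le inf_le_left)
  obtain ⟨R2, r2, r2'⟩ := syl_superset p2 (inf_le_right.trans hH) (h2.pi.of_le inf_le_left)
  obtain ⟨S3, s3, s3'⟩ := syl_superset p2 le_top r1.pi
  obtain ⟨S4, s4, s4'⟩ := syl_superset p2 le_top r2.pi
  have p3 := mx' S1 S3 h1 s3 (l1.trans_le (le_inf inf_le_left (r1'.trans s3'))) p1
  have p4 : ¬ p S4 := fun e => q2 (mx' S4 S2 s4 h2 (l2.trans_le (le_inf (r2'.trans s4') inf_le_left)) e)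
  refine ⟨H, R1, R2, S3, S4, ⟨hc, ne', mH, fun R R' => la H R R' ne', fun R hR e => p4 (mx' S3 S4 s3 s4 ?_ p3)⟩,
    r1, r2, s3, s4, s3', s4', p3, p4⟩
  have e1 := r1.eq_of_le hR (hR.le_of_normal e r1.pi r1.le)
  have e2 := r2.eq_of_le hR (hR.le_of_normal e r2.pi r2.le)
  exact l1.trans_le (r1'.trans (le_inf s3' (by rwa [e1, ← e2])))

structure Edge (H1 H2 R : Subgroup G) (q : ℕ) : Prop where
  f1 : FF H1 q
  f2 : FF H2 q
  s1 : Syl 2 R H1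
  s2 : Syl 2 R H2
  ne : H1 ≠ H2

theorem Par.U_eq (P : Par H) (hR : Syl 2 R H) : VV H ⊓ C[R] = Ω[2](Z[R]) := by
  have VR := (V_le H).trans hR.O_le
  refine le_antisymm (fun v hv => mem_Om (mem_inf.2 ⟨VR hv.1, hv.2⟩) ((V_ab H).pow v hv.1)) (Om_le_iff.2 fun x hx e => ?_)
  exact ⟨mem_V (P.CV.le (centS VR hx.2)) (centS hR.O_le hx.2) (by rwa [← sq]), hx.2⟩

theorem Par.N_le (P : Par H) : N[H] ≤ H := (normOmZ 2 (normO _ le_rfl)).trans P.NV.le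

theorem two_inv (ha : a * a = 1) (hw : w * w = 1) (h : PiE {2} (a * w)) : ∃ Y, PiG {2} Y ∧ a ∈ Y ∧ w ∈ Y := by
  refine ⟨zpowers (a * w) ⊔ zpowers a, (pig_zpowers.2 h).sup_l (pig_zpowers.2 (pie_sq ha))
    (zpowers_le.2 (t_norm_zp (inverts_left ha hw))), mem_sup_right (mem_zpowers a), ?_⟩
  have := mul_mem (inv_mem (mem_sup_right (S := zpowers (a * w)) (mem_zpowers a)))
    (mem_sup_left (T := zpowers a) (mem_zpowers (a * w)))
  rwa [inv_mul_cancel_left] at this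

theorem exists_inv_not (h0 : DD (⊤ : Subgroup G) = ⊥) (h : DD H ≠ ⊥) : ∃ w, w * w = 1 ∧ w ∉ H := by
  by_contra e
  push Not at e
  have l : closure {t : G | t * t = 1} ≤ H := (closure_le H).2 e
  have n : ⊤ ≤ N[closure {t : G | t * t = 1}] := fun g _ => mem_N_of_cj_le (cj_le_iff.2 ((closure_le _).2
    fun t ht => mem_cj_inv.2 (subset_closure (by
      change g * t * g⁻¹ * (g * t * g⁻¹) = 1
      rw [show g * t * g⁻¹ * (g * t * g⁻¹) = g * (t * t) * g⁻¹ by group, ht]; simp))))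
  exact V_ne h (eq_bot_iff.2 ((le_O (fun v hv => subset_closure (V_sq hv)) (l.trans (V_norm H)) (V_pig H)).trans
    ((O_le_of_normal _ le_top n).trans h0.le)))

theorem exists_two (hc : IsCIT G) (la : LA G) (h0 : DD (⊤ : Subgroup G) = ⊥) (P : Par H)
    (hb : ∀ H R : Subgroup G, Par H → Syl 2 R H → Syl 2 R ⊤) :
    ∃ H1 H2 S : Subgroup G, Par H1 ∧ Par H2 ∧ H1 ≠ H2 ∧ Syl 2 S H1 ∧ Syl 2 S H2 := by
  by_contra uq
  have uq' : ∀ K S, Par K → Syl 2 S H → Syl 2 S K → K = H := fun K S a1 a2 a3 => by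
    by_contra e; exact uq ⟨K, H, S, a1, P, e, a3, a2⟩
  have key : ∀ Y, PiG {2} Y → ∀ a ∈ Y, a ∈ H → a ≠ 1 → Y ≤ H := fun Y hY a a1 a2 a3 => by
    obtain ⟨S', s1, s2⟩ := syl_superset p2 le_top hY
    obtain ⟨S0, s3, s4⟩ := syl_superset p2 (zpowers_le.2 a2) (pig_zpowers.2 (hY.elt a1))
    by_contra n
    obtain ⟨H', R1, R2, S3, S4, P', r1, r2, t3, t4, l3, l4, p3, p4⟩ := lemM hc la (· ≤ H) (hb _ _ P s3) s1
      (ne_bot_of_mem ⟨s4 (mem_zpowers a), s2 a1⟩ a3) s3.le fun e => n (s2.trans e)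
    have := uq' H' R1 P' ((hb _ _ P' r1).sub (l3.trans p3) le_top) r1
    subst this
    exact p4 (((hb _ _ P r2).eq_of_le t4 l4).ge.trans r2.le)
  obtain ⟨w, w2, wH⟩ := exists_inv_not h0 P.ne
  have cw : ∀ a ∈ H, orderOf a = 2 → IsConj a w := fun a a1 a2 =>
    isConj_of_odd (sq_of_ord2 a2) w2 (pie_odd.1 ((hc.elt _).resolve_left fun e => by
      obtain ⟨Y, y1, y2, y3⟩ := two_inv (sq_of_ord2 a2) w2 e
      exact wH (key Y y1 a y2 a1 (ne_one_of_ord2 a2) y3)))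
  obtain ⟨S, hS⟩ := syl_exists p2 H
  obtain ⟨z, hz, z1⟩ := exists_U P.ne hS
  obtain ⟨a, a1, a2, a3⟩ := P.exists_inv hS
  obtain ⟨g, e⟩ := isConj_iff.1 ((cw z (O_le _ _ (V_le H hz.1)) (ord2_iff.2 ⟨V_sq hz.1, z1⟩)).trans
    (cw a (hS.le a1) a3).symm)
  have l1 : cj g S ≤ C1[a] := by rw [← e, ← cj_C1]; exact cj_mono g (le_C1_iff.2 hz.2)
  have l2 := key _ (hc.pigC1 (hS.pi.elt a1) (ne_one_of_ord2 a3)) a (mem_C1_self a) (hS.le a1) (ne_one_of_ord2 a3)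
  have := (((hb _ _ P hS).cj_top g).sub (l1.trans l2) le_top).O_le
  exact a2 (P.CV.le (le_C1_iff.1 ((V_le H).trans (this.trans l1))))

theorem J_both (P1 : Par H1) (P2 : Par H2) (s1 : Syl 2 S H1) (s2 : Syl 2 S H2) (n : ¬ JJ S ≤ DD H1) :
    ¬ JJ S ≤ DD H2 := fun hJ => by
  obtain ⟨A, hA, nA⟩ : ∃ A, MaxE A S ∧ ¬ A ≤ DD H1 := by
    by_contra e; push Not at e; exact n (J_le_iff.2 e)
  obtain ⟨q, F, hE⟩ := P1.ff_of_max s1 hA nA
  have v2 : ∀ B, MaxE B S → VV H2 ≤ B := fun B hB =>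
    hB.le_of ((V_le _).trans s2.O_le) (V_ab _) ((hB.le_J.trans hJ).trans P2.CV.ge)
  obtain ⟨h, hh, n⟩ := P1.other s1
  obtain ⟨a, a1, a2⟩ := SetLike.not_le_iff_exists.1 nA
  have sq : a * a = 1 := by rw [← _root_.sq]; exact hA.ab.pow a a1
  have ED : (A ⊓ DD H1) ⊔ VV H1 ≤ DD H1 := sup_le inf_le_right (V_le _)
  have hE' : MaxE (cj h ((A ⊓ DD H1) ⊔ VV H1)) S :=
    ⟨(cj_le_of_mem ED (O_norm _ _ hh)).trans s1.O_le, hE.ab.cj h, by simpa only [card_cj] using hE.max⟩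
  have nV := V_norm H1
  have c : ∀ y ∈ (A ⊓ DD H1) ⊔ VV H1, y * a * y⁻¹ * a⁻¹ ∈ VV H1 := fun y hy => by
    obtain ⟨b, hb, v, hv, rfl⟩ := (mem_sup_r ((inf_le_right.trans (O_le _ _)).trans nV)).1 hy
    have := conj_mem (nV (O_le _ _ hb.2)) (F.comm_U s1 hv (hA.le a1)).1
    convert this using 1
    have e := mem_C_comm hA.ab.abel (inv_mem a1) (inv_mem hb.1)
    calc _ = b * (v * a * v⁻¹) * (b⁻¹ * a⁻¹) := by group
      _ = _ := by rw [← e]; group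
  obtain ⟨o, o1⟩ := P1.odd s1 (s1.cj_mem hh) n.symm (hA.le a1) (mem_cj_conj.2 (hA.le a1)) a2 (P1.conj_not hh a2)
    (sq ▸ one_mem _) (by rw [show h * a * h⁻¹ * (h * a * h⁻¹) = h * (a * a) * h⁻¹ by group, sq]; simp)
  have := P1.cit.le_of_comm (K := ((A ⊓ DD H1) ⊔ VV H1) ⊓ cj h ((A ⊓ DD H1) ⊔ VV H1)) (L := VV H1)
    ((O_pig _ _).of_le (inf_le_left.trans ED))
    (le_inf le_sup_right ((cj_of_mem_N (nV hh)).ge.trans (cj_mono h le_sup_right))) o o1 fun y hy =>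
      comm_mul_mem (c y hy.1) (by
        have := conj_mem (nV hh) (c _ (mem_cj.1 hy.2))
        convert this using 1; group) (nV (s1.le (hA.le a1)))
  have l : VV H2 ≤ C[S] := le_trans (le_inf ((le_inf (v2 _ hE) (v2 _ hE')).trans this)
    ((v2 _ hA).trans (hA.ab.abel.trans (C_le_C1 a1)))) (F.cent S s1 a (hA.le a1) a2)
  obtain ⟨b, b1, b2, -⟩ := P2.exists_not s2
  exact b2 (P2.CV.le (cent_symm l b1))

theorem Par.ff_of_J (P : Par H) (hR : Syl 2 R H) (n : ¬ JJ R ≤ DD H) : FF H #Ω[2](Z[R]) := by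
  obtain ⟨A, hA, nA⟩ : ∃ A, MaxE A R ∧ ¬ A ≤ DD H := by
    by_contra e; push Not at e; exact n (J_le_iff.2 e)
  obtain ⟨q, F, -⟩ := P.ff_of_max hR hA nA
  rwa [← P.U_eq hR, F.cU R hR]

theorem exists_edge (hc : IsCIT G) (la : LA G) (h0 : DD (⊤ : Subgroup G) = ⊥) (h1 : Syl 2 S1 ⊤) (h2 : Syl 2 S2 ⊤)
    (n : S1 ≠ S2) (ne : S1 ⊓ S2 ≠ ⊥) : ∃ (H1 H2 R : Subgroup G) (q : ℕ), Edge H1 H2 R q := by
  by_cases ha : ∃ H R : Subgroup G, Par H ∧ Syl 2 R H ∧ ¬ N[R] ≤ H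
  · obtain ⟨H, R, P, hR, n⟩ := ha
    obtain ⟨g, g1, g2⟩ := SetLike.not_le_iff_exists.1 n
    have F := P.ff_of_J hR fun e => n ((normJ le_rfl).trans (P.N_J hR e).le)
    exact ⟨H, cj g H, R, _, F, F.cjj g, hR, by simpa [cj_of_mem_N g1] using hR.cj g,
      fun e => g2 (P.N_le (mem_N_iff_cj.2 e.symm))⟩
  push Not at ha
  obtain ⟨H, -, -, -, -, P, -⟩ := lemM hc la (· = S1) h1 h2 ne rfl n.symm
  obtain ⟨H1, H2, S, P1, P2, n, s1, s2⟩ := exists_two hc la h0 P fun H R P hR =>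
    Syl.of_norm (hR.sub (le_inf le_top (normG R)) (inf_le_right.trans (ha H R P hR))) p2
  have : ¬ JJ S ≤ DD H1 := fun e => J_both P2 P1 s2 s1 (fun e' => n ((P1.N_J s1 e).symm.trans (P2.N_J s2 e'))) e
  exact ⟨H1, H2, S, _, P1.ff_of_J s1 this, P2.ff_of_J s2 (J_both P1 P2 s1 s2 this), s1, s2, n⟩

namespace Edge
variable (e : Edge H1 H2 R q)
include e
theorem symm : Edge H2 H1 R q := ⟨e.f2, e.f1, e.s2, e.s1, e.ne.symm⟩
theorem cjj (g : G) : Edge (cj g H1) (cj g H2) (cj g R) q :=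
  ⟨e.f1.cjj g, e.f2.cjj g, e.s1.cj g, e.s2.cj g, mt cj_eq_cj.1 e.ne⟩
theorem U_eq : VV H1 ⊓ C[R] = VV H2 ⊓ C[R] := (e.f1.U_eq e.s1).trans (e.f2.U_eq e.s2).symm
theorem V1 : VV H1 ≤ R := (V_le _).trans e.s1.O_le
theorem V2 : VV H2 ≤ R := (V_le _).trans e.s2.O_le
theorem V_ne : VV H1 ≠ VV H2 := fun h => e.ne (by rw [← e.f1.NV, h, e.f2.NV])
theorem not_le : ¬ VV H1 ≤ VV H2 := fun h => e.V_ne (eq_of_card_le h (by rw [e.f1.cV, e.f2.cV]))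
end Edge

inductive Wk (q : ℕ) : ℕ → Subgroup G → Subgroup G → Prop
  | nil (H : Subgroup G) : Wk q 0 H H
  | cons {n : ℕ} {H K L R : Subgroup G} : Edge H K R q → Wk q n K L → Wk q (n + 1) H L

theorem Wk.snoc (h : Wk q n H K) (e : Edge K L R q) : Wk q (n + 1) H L := by
  induction h with
  | nil => exact .cons e (.nil _)
  | cons e' _ ih => exact .cons e' (ih e)

theorem Wk.unsnoc (h : Wk q (n + 1) H L) : ∃ K R, Wk q n H K ∧ Edge K L R q := by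
  induction n generalizing H with
  | zero => cases h with | cons e w => cases w; exact ⟨_, _, .nil _, e⟩
  | succ n ih => cases h with | cons e w =>
    obtain ⟨K, R, w', e'⟩ := ih w
    exact ⟨K, R, .cons e w', e'⟩

theorem Wk.symm (h : Wk q n H K) : Wk q n K H := by
  induction h with
  | nil => exact .nil _
  | cons e _ ih => exact ih.snoc e.symm

theorem Wk.append (h : Wk q n H K) (h' : Wk q m K L) : Wk q (m + n) H L := by
  induction h with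
  | nil => exact h'
  | cons e _ ih => exact .cons e (ih h')

theorem Wk.cjj (h : Wk q n H K) (g : G) : Wk q n (cj g H) (cj g K) := by
  induction h with
  | nil => exact .nil _
  | cons e _ ih => exact .cons (e.cjj g) ih

theorem crit {α β γ α' : Subgroup G} (e1 : Edge α γ R1 q) (e2 : Edge β α' R2 q) (c1 : VV α ≤ C[VV β])
    (c2 : VV α' ≤ C[VV γ]) (n : ¬ VV α ≤ C[VV α']) :
    VV α ⊓ C[R1] = VV α' ⊓ C[R2] ∧ ∃ a ∈ VV α', a ∈ R1 ∧ a ∉ DD α := by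
  have l1 := c1.trans (e2.f1.CV.le.trans e2.s1.O_le)
  have l2 := c2.trans (e1.f2.CV.le.trans e1.s2.O_le)
  obtain ⟨a, a1, a2⟩ := SetLike.not_le_iff_exists.1 n
  obtain ⟨b, b1, b2⟩ := SetLike.not_le_iff_exists.1 (mt cent_symm n)
  rw [e2.f2.CV] at a2
  rw [e1.f1.CV] at b2
  refine ⟨eq_of_card_le (fun u hu => ?_) (by rw [e1.f1.cU _ e1.s1, e2.f2.cU _ e2.s2]), b, b1, l2 b1, b2⟩
  have : u ∈ VV α' := by
    obtain ⟨v, hv, rfl⟩ := e1.f1.surj_V e1.s1 (l2 b1) b2 hu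
    exact (e2.f2.comm_U' e2.s2 b1 (l1 hv)).1
  exact ⟨this, e2.f2.cent _ e2.s2 a (l1 a1) a2 ⟨this, mem_C1.2 (V_comm hu.1 a1)⟩⟩

theorem wk_comm (h1 : ∀ H K R : Subgroup G, Edge H K R q → VV H ≤ C[VV K]) (n : ℕ) :
    ∀ H K : Subgroup G, Wk q n H K → VV H ≤ C[VV K] := by
  rcases n with _ | n
  · intro H K w; cases w; exact (V_ab _).abel
  induction n with
  | zero => intro H K w; cases w with | cons e w => cases w; exact h1 _ _ _ e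
  | succ n ih =>
    intro α α' w
    by_contra nc
    cases w with | @cons _ _ γ _ R1 e1 w =>
    obtain ⟨β, R2, w', e2⟩ := w.unsnoc
    have w1 := Wk.cons e1 w'
    obtain ⟨eU, a', a1, a2, a3⟩ := crit e1 e2 (ih _ _ w1) (cent_symm (ih _ _ w)) nc
    obtain ⟨h, hh, nh⟩ := e1.f1.other e1.s1
    have e3 : Edge α (cj h γ) (cj h R1) q := by simpa [cj_of_mem hh] using e1.cjj h
    by_cases c : VV (cj h γ) ≤ C[VV β]
    · obtain ⟨a, b1, b2, b3⟩ := e3.f1.exists_not e3.s1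
      obtain ⟨o, o1⟩ := e1.f1.odd e3.s1 e1.s1 nh b1 a2 b2 a3 b3 (V_sq a1 ▸ one_mem _)
      have nV := V_norm α
      have l := (h1 _ _ _ e3.symm).trans e1.f1.CV.le
      refine e3.symm.not_le (le_sup_left.trans (e1.f1.cit.le_of_comm (K := VV (cj h γ) ⊔ VV α)
        ((O_pig _ _).of_le (sup_le l (V_le _))) le_sup_right o o1 fun y hy => ?_))
      obtain ⟨d, hd, v, hv, rfl⟩ := (mem_sup_r ((l.trans (O_le _ _)).trans nV)).1 hy
      have xH := mul_mem (e3.s1.le b1) (e1.s1.le a2)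
      have t1 : d * (a * a') * d⁻¹ * (a * a')⁻¹ ∈ VV α := comm_mul_mem
        (e3.U_eq.ge (e3.f2.comm_U e3.s2 hd b1)).1
        (eU.ge (e2.f2.comm_U' e2.s2 a1 ((c.trans (e2.f1.CV.le.trans e2.s1.O_le)) hd))).1 (nV (e3.s1.le b1))
      have t2 := conj_mem (nV (O_le _ _ (l hd))) (mul_mem hv (conj_mem (nV xH) (inv_mem hv)))
      have := mul_mem t2 t1
      convert this using 1; group
    · obtain ⟨γ', R3, w2, e4⟩ := w1.unsnoc
      obtain ⟨eU', -⟩ := crit e3.symm e4 (ih _ _ (.cons e3.symm w2)) (cent_symm (ih _ _ w1)) c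
      have l : VV α ≤ VV β := (e1.f1.prod_U e1.s1 e3.s1 nh.symm).sup.ge.trans (sup_le
        (eU.le.trans (e2.U_eq.ge.trans inf_le_left)) (e3.U_eq.le.trans (eU'.le.trans inf_le_left)))
      exact nc (l.trans (h1 _ _ _ e2))

theorem exists_nc (e : Edge H1 H2 R q) : ∃ H1 H2 R : Subgroup G, Edge H1 H2 R q ∧ ¬ VV H1 ≤ C[VV H2] := by
  by_contra h
  push Not at h
  let W : Subgroup G := ⨆ K : {K // ∃ n, Wk q n H1 K}, VV K.1
  have ab : Abel W := iSup_le fun ⟨K, n, hK⟩ => cent_symm (iSup_le fun ⟨L, m, hL⟩ =>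
    wk_comm h _ _ _ (hL.symm.append hK))
  have le : ∀ K n, Wk q n H1 K → VV K ≤ W := fun K n hK => le_iSup_of_le ⟨K, n, hK⟩ le_rfl
  have pg : PiG {2} W := ((ab.Om_abelem 2).pig p2).of_le
    (iSup_le fun ⟨K, n, hK⟩ => (V_ab K).le_Om (le K n hK))
  have ne : W ≠ ⊥ := fun e' => V_ne e.f1.ne (eq_bot_iff.2 (e' ▸ le _ _ (.nil _)))
  have nm : ∀ g n, Wk q n H1 (cj g H1) → g ∈ N[W] := fun g n hg => mem_N_of_cj_le (cj_le_iff.2
    (iSup_le fun ⟨K, m, hK⟩ => cj_le_iff.1 ((cj_VV g K).le.trans (le _ _ (hg.append (hK.cjj g))))))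
  refine e.ne ((e.f1.N_eq pg ne fun g hg => nm g 0 ?_).symm.trans (e.f2.N_eq pg ne fun g hg => nm g 2 ?_))
  · rw [cj_of_mem hg]; exact .nil _
  · exact .cons e (.cons (R := cj g R) (by simpa [cj_of_mem hg] using e.symm.cjj g) (.nil _))

theorem Edge.D_eq (e : Edge H1 H2 R q) (n : ¬ VV H2 ≤ C[VV H1]) : DD H1 = VV H1 := by
  obtain ⟨a, a1, a2⟩ := SetLike.not_le_iff_exists.1 n
  rw [e.f1.CV] at a2
  obtain ⟨h, hh, nh⟩ := e.f1.other e.s1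
  have nV := V_norm H1
  obtain ⟨o, o1⟩ := e.f1.odd e.s1 (e.s1.cj_mem hh) nh.symm (e.V2 a1) (mem_cj_conj.2 (e.V2 a1)) a2
    (e.f1.conj_not hh a2) (V_sq a1 ▸ one_mem _)
    (by rw [show h * a * h⁻¹ * (h * a * h⁻¹) = h * (a * a) * h⁻¹ by group, V_sq a1]; simp)
  have c : ∀ y ∈ DD H1, y * a * y⁻¹ * a⁻¹ ∈ VV H1 := fun y hy =>
    (e.U_eq.ge (e.f2.comm_U' e.s2 a1 (e.s1.O_le hy))).1
  refine le_antisymm (e.f1.cit.le_of_comm (O_pig _ _) (V_le _) o o1 fun y hy =>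
    comm_mul_mem (c y hy) ?_ (nV (e.s1.le (e.V2 a1)))) (V_le _)
  have := conj_mem (nV hh) (c _ (conj_mem' (O_norm _ _ hh) hy))
  convert this using 1; group

/-- the final amalgam -/
structure Am (H1 H2 R : Subgroup G) (q : ℕ) : Prop extends Edge H1 H2 R q where
  d1 : DD H1 = VV H1
  d2 : DD H2 = VV H2

theorem exists_am (hc : IsCIT G) (la : LA G) (h0 : DD (⊤ : Subgroup G) = ⊥) (h1 : Syl 2 S1 ⊤) (h2 : Syl 2 S2 ⊤)
    (n : S1 ≠ S2) (ne : S1 ⊓ S2 ≠ ⊥) : ∃ (H1 H2 R : Subgroup G) (q : ℕ), Am H1 H2 R q := by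
  obtain ⟨H1, H2, R, q, e⟩ := exists_edge hc la h0 h1 h2 n ne
  obtain ⟨H1, H2, R, e, nc⟩ := exists_nc e
  exact ⟨H1, H2, R, q, e, e.D_eq (mt cent_symm nc), e.symm.D_eq nc⟩

end Cfsg.Agent.CIT
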