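import Cfsg.Agent.CIT.B

/-! # CIT groups: elements of order 3, the local structure theorem -/

set_option autoImplicit false
set_option linter.unusedVariables false
set_option linter.unusedSectionVars false

namespace Cfsg.Agent.CIT
open Cfsg Cfsg.Agent.BG Cfsg.Agent.Inv Cfsg.Agent.SE Subgroup
open scoped commutatorElement

variable {G : Type*} [Group G] [Finite G]
variable {A B D E H H1 H2 K L M R R' R'' R1 R2 S S1 S2 T U V W X Y : Subgroup G}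
  {a a' b c g h k r s t u u' v w x y z : G} {q n m : ℕ}

theorem conj_C (h : g ∈ C[V]) (hv : v ∈ V) : g * v * g⁻¹ = v := by
  rw [← mem_C.1 h v hv, mul_inv_cancel_right]
theorem conj_C' (h : v ∈ C[V]) (hg : g ∈ V) : g * v * g⁻¹ = v := by
  rw [mem_C.1 h g hg, mul_inv_cancel_right]
theorem C1_of_conj (h : g * v * g⁻¹ = v) : g ∈ C1[v] := mem_C1.2 (mul_inv_eq_iff_eq_mul.1 h)
theorem conj_mem_U (hg : g ∈ H) (e : cj g R = R') (hu : u ∈ VV H ⊓ C[R]) : g * u * g⁻¹ ∈ VV H ⊓ C[R'] :=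
  ⟨conj_mem (V_norm H hg) hu.1, by rw [← e, ← cj_C]; exact mem_cj_conj.2 hu.2⟩
theorem V_inv (hv : v ∈ VV H) : v⁻¹ = v := inv_eq_of_mul_eq_one_left (V_sq hv)

/-- `g` interchanges the Sylow subgroups `R`, `R'` of `H` -/
structure Sw (H R R' : Subgroup G) (g : G) : Prop where
  s : Syl 2 R H
  s' : Syl 2 R' H
  ne : R ≠ R'
  mem : g ∈ H
  l : cj g R = R'
  r : cj g R' = R

theorem Sw.mul (h : Sw H R R' g) (h1 : k ∈ H) (h2 : k ∈ N[R]) (h3 : k ∈ N[R']) : Sw H R R' (g * k) :=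
  ⟨h.s, h.s', h.ne, mul_mem h.mem h1, by rw [cj_mul, cj_of_mem_N h2, h.l], by rw [cj_mul, cj_of_mem_N h3, h.r]⟩

namespace FF
variable (F : FF H q)
include F

theorem conj_D (hd : g ∈ DD H) (hv : v ∈ VV H) : g * v * g⁻¹ = v := conj_C (F.CV.ge hd) hv

theorem sq_mem (hR : Syl 2 R H) (hr : r ∈ R) : r * r ∈ DD H := by
  refine F.CV.le (mem_C.2 fun v hv => ?_)
  have u := F.comm_U' hR hv hr
  have e := conj_C' u.2 hr
  have s := V_sq u.1
  generalize hu : r * v * r⁻¹ * v⁻¹ = u at e s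
  have e1 : r * v * r⁻¹ = u * v := by rw [← hu]; group
  calc v * (r * r) = u * (u * v) * (r * r) := by rw [← mul_assoc u, s, one_mul]
    _ = (r * u * r⁻¹) * (r * v * r⁻¹) * (r * r) := by rw [e, e1]
    _ = r * (u * v) * r := by group
    _ = r * r * v := by rw [← e1]; group

theorem eq_of_U (hR : Syl 2 R H) (hR' : Syl 2 R' H) (n : R ≠ R') (h1 : u ∈ VV H ⊓ C[R]) (h2 : u' ∈ VV H ⊓ C[R])
    (h3 : b ∈ VV H ⊓ C[R']) (h4 : c ∈ VV H ⊓ C[R']) (e : u * b = u' * c) : u = u' ∧ b = c := by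
  have e1 : u'⁻¹ * u = c * b⁻¹ := by rw [inv_mul_eq_iff_eq_mul, ← mul_assoc, ← e, mul_inv_cancel_right]
  have := F.U_inf hR hR' n (mul_mem (inv_mem h2.2) h1.2) (e1 ▸ mul_mem h4.2 (inv_mem h3.2))
    ((V_pig H).elt (mul_mem (inv_mem h2.1) h1.1))
  exact ⟨(inv_mul_eq_one.1 this).symm, (mul_inv_eq_one.1 (e1 ▸ this)).symm⟩

theorem not_C (hR : Syl 2 R H) (hR' : Syl 2 R' H) (n : R ≠ R') (hb : b ∈ VV H ⊓ C[R']) (b1 : b ≠ 1) : b ∉ C[R] :=
  fun e => b1 (F.U_inf hR hR' n e hb.2 ((V_pig H).elt hb.1))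

theorem exists_sw (hR : Syl 2 R H) (hR' : Syl 2 R' H) (n : R ≠ R') (hb : b ∈ VV H ⊓ C[R']) (b1 : b ≠ 1)
    (hc : c ∈ VV H ⊓ C[R]) (c1 : c ≠ 1) :
    ∃ R'' w, Syl 2 R'' H ∧ R'' ≠ R ∧ w ∈ R'' ∧ w ∉ DD H ∧ Sw H R R' w ∧ w * b * w⁻¹ = c := by
  obtain ⟨R'', hR'', hv⟩ := F.exists_syl (mul_mem hc.1 hb.1)
  have n1 : R'' ≠ R := by
    rintro rfl; exact F.not_C hR hR' n hb b1 (by simpa using mul_mem (inv_mem (mem_inf.1 hc).2) hv)
  have n2 : R'' ≠ R' := by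
    rintro rfl; exact F.not_C hR' hR n.symm hc c1 (by simpa using mul_mem hv (inv_mem (mem_inf.1 hb).2))
  obtain ⟨w, hw, e⟩ := F.trans_R hR'' hR hR' n1 n2
  have e' : cj w R' = R := by rw [← e, ← cj_mul, cj_of_mem (hR.O_le (F.sq_mem hR'' hw))]
  refine ⟨R'', w, hR'', n1, hw, fun h => n (by rw [← e, cj_of_mem (hR.O_le h)]),
    ⟨hR, hR', n, hR''.le hw, e, e'⟩, ?_⟩
  have m1 := conj_mem_U (hR''.le hw) e' hb
  have m2 := conj_mem_U (hR''.le hw) e hc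
  refine (F.eq_of_U hR hR' n m1 hc m2 hb ?_).1
  rw [V_comm m1.1 m2.1, ← conj_C' hv hw]; group

theorem mem_D_of_N (hR : Syl 2 R H) (hR' : Syl 2 R' H) (n : R ≠ R') (h1 : g ∈ R') (h2 : g ∈ N[R]) : g ∈ DD H :=
  F.ti _ _ hR hR' n ⟨hR.le_of_norm (pig_zpowers.2 (hR'.pi.elt h1)) (zpowers_le.2 (hR'.le h1)) (zpowers_le.2 h2)
    (mem_zpowers _), h1⟩

theorem sw_sq (h : Sw H R R' g) : g * g ∈ DD H := by
  obtain ⟨b, hb, b1⟩ := exists_U F.ne h.s'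
  obtain ⟨R'', w, s'', -, hw, -, sw, e⟩ := F.exists_sw h.s h.s' h.ne hb b1 (conj_mem_U h.mem h.r hb) (conj_ne b1 g)
  have d : w⁻¹ * g ∈ DD H := F.mem_D_of_N h.s h.s' h.ne (F.C1_le h.s' hb.2 ((V_pig H).elt hb.1) b1
    (mem_inf.2 ⟨mul_mem (inv_mem sw.mem) h.mem, C1_of_conj (by
      calc _ = w⁻¹ * (g * b * g⁻¹) * w := by group
        _ = b := by rw [← e]; group)⟩)) (by rw [mem_N_iff_cj, cj_mul, h.l, ← sw.l, cj_inv_cj])
  have := mul_mem (mul_mem (conj_mem (O_norm {2} H sw.mem) d) (F.sq_mem s'' hw)) d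
  convert this using 1; group

theorem three (h : Sw H R R' g) : ∃ r ∈ R, r ∉ DD H ∧ (g * r) ^ 3 ∈ DD H ∧
    ∀ b ∈ VV H ⊓ C[R'], r * b * r⁻¹ * b⁻¹ = g * b * g⁻¹ := by
  obtain ⟨b, hb, b1⟩ := exists_U F.ne h.s'
  have hc := conj_mem_U h.mem h.r hb
  obtain ⟨r, hr, e⟩ := F.surj_R h.s hb.1 (F.not_C h.s h.s' h.ne hb b1) hc
  have g2 := F.sw_sq h
  have gg : ∀ v ∈ VV H, g * (g * v * g⁻¹) * g⁻¹ = v := fun v hv => by
    rw [show g * (g * v * g⁻¹) * g⁻¹ = g * g * v * (g * g)⁻¹ by group, F.conj_D g2 hv]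
  have c1 := conj_ne b1 g
  have hgc := gg b hb.1
  generalize hgb : g * b * g⁻¹ = c at hc e c1 hgc
  have hrb : r * b * r⁻¹ = c * b := by rw [← e]; group
  have hrc := conj_C' hc.2 hr
  have cb := V_comm hc.1 hb.1
  have xH := mul_mem (mul_mem (h.s.le hr) h.mem) (h.s.le hr)
  have x1 : r * g * r ∈ R' := F.C1_le h.s' hb.2 ((V_pig H).elt hb.1) b1 (mem_inf.2 ⟨xH, C1_of_conj (by
    calc _ = r * (g * (r * b * r⁻¹) * g⁻¹) * r⁻¹ := by group
      _ = r * ((g * c * g⁻¹) * (g * b * g⁻¹)) * r⁻¹ := by rw [hrb]; group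
      _ = (r * b * r⁻¹) * (r * c * r⁻¹) := by rw [hgc, hgb]; group
      _ = b := by rw [hrb, hrc, cb, mul_assoc, V_sq hc.1, mul_one])⟩)
  have y1 : g * r * g⁻¹ ∈ R' := h.l ▸ mem_cj_conj.2 hr
  have d : (r * g * r)⁻¹ * (g * r * g⁻¹) ∈ DD H := F.mem_D h.s' hc.1 (F.not_C h.s' h.s h.ne.symm hc c1)
    (mul_mem (inv_mem x1) y1) (C1_of_conj (by
      have e1 : r * g * r * c * (r * g * r)⁻¹ = c * b := by
        calc _ = r * (g * (r * c * r⁻¹) * g⁻¹) * r⁻¹ := by group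
          _ = _ := by rw [hrc, hgc, hrb]
      have e2 : g * r * g⁻¹ * c * (g * r * g⁻¹)⁻¹ = c * b := by
        calc _ = g * (r * (g⁻¹ * (g * b * g⁻¹) * g) * r⁻¹) * g⁻¹ := by rw [hgb]; group
          _ = g * (r * b * r⁻¹) * g⁻¹ := by group
          _ = (g * c * g⁻¹) * (g * b * g⁻¹) := by rw [hrb]; group
          _ = _ := by rw [hgc, hgb, cb]
      calc _ = (r * g * r)⁻¹ * (g * r * g⁻¹ * c * (g * r * g⁻¹)⁻¹) * (r * g * r) := by group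
        _ = c := by rw [e2, ← e1]; group))
  refine ⟨r, hr, fun d => c1 (by rw [← e, F.conj_D d hb.1, mul_inv_cancel]), ?_, fun b hb => ?_⟩
  · have := mul_mem (conj_mem (O_norm {2} H xH) (mul_mem d g2)) (F.sq_mem h.s' x1)
    convert this using 1
    rw [pow_succ, sq]; group
  · have l := F.comm_U' h.s hb.1 hr
    have be := conj_mem_U h.mem h.l l
    have m := F.comm_U' h.s be.1 hr
    have c := conj_mem_U h.mem h.r hb
    have := (F.eq_of_U h.s h.s' h.ne (mul_mem m c) (one_mem _) be hb (by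
      rw [one_mul, mul_assoc, V_comm c.1 be.1]
      calc _ = r * (g * (r * b * r⁻¹ * b⁻¹) * g⁻¹) * r⁻¹ * (g * b * g⁻¹) := by group
        _ = r * (g * (r * b * r⁻¹ * b⁻¹) * g⁻¹) * r⁻¹ * (r * (g * b * g⁻¹) * r⁻¹) := by rw [conj_C' c.2 hr]
        _ = r * g * r * b * (r * g * r)⁻¹ := by group
        _ = b := conj_C' hb.2 x1)).2
    rw [← gg _ l.1, this]

theorem exists_three (hR : Syl 2 R H) :
    ∃ y ∈ H, y ^ 3 = 1 ∧ y ≠ 1 ∧ ∀ z ∈ VV H ⊓ C[R], z ≠ 1 → y * z * y⁻¹ ∉ C[R] := by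
  obtain ⟨h, hh, n⟩ := F.other hR
  have hR' := hR.cj_mem hh
  obtain ⟨b, hb, b1⟩ := exists_U F.ne hR'
  obtain ⟨c, hc, c1⟩ := exists_U F.ne hR
  obtain ⟨R'', w, s'', n', hw, nw, sw, -⟩ := F.exists_sw hR hR' n.symm hb b1 hc c1
  obtain ⟨r, hr, nr, h3, -⟩ := F.three sw
  obtain ⟨o, o1⟩ := F.odd s'' hR n' hw hr nw nr (F.sq_mem s'' hw) (F.sq_mem hR hr)
  refine ⟨w * r, mul_mem sw.mem (hR.le hr), ((O_pig _ _).elt h3).eq_one (o.pow 3), o1, fun z hz z1 => ?_⟩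
  rw [show w * r * z * (w * r)⁻¹ = w * (r * z * r⁻¹) * w⁻¹ by group, conj_C' hz.2 hr]
  exact F.not_C hR hR' n.symm (conj_mem_U sw.mem sw.l hz) (conj_ne z1 w)

theorem exists_inv_syl (hR : Syl 2 R H) (h1 : K ≤ H) (h2 : K ≤ N[R]) (hK : PiG {2}ᶜ K) :
    ∃ R', Syl 2 R' H ∧ R ≠ R' ∧ K ≤ N[R'] := by
  obtain ⟨h, hh, n⟩ := F.other hR
  have hR' := hR.cj_mem hh
  generalize cj h R = R' at n hR'
  have T1 : R ⊔ K ≤ H := sup_le hR.le h1
  have T2 : R ⊔ K ≤ N[R] := sup_le (normG R) h2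
  have sl := hR.pi.sol.sup_l (sol_of_odd (odd_of_pig2 hK)) h2
  have nn : ∀ g ∈ R ⊔ K, R ≠ cj g R' := fun g hg e => n (cj_eq_cj.1 (e.symm.trans (cj_of_mem_N (T2 hg)).symm))
  have pr : IsProd R ((R ⊔ K) ⊓ N[R']) (R ⊔ K) := ⟨le_sup_left, inf_le_left, fun t ht => by
    obtain ⟨r, hr, e⟩ := F.trans_R hR hR' (hR'.cj_mem (T1 ht)) n.symm (nn t ht)
    exact ⟨r, hr, r⁻¹ * t, mem_inf.2 ⟨mul_mem (inv_mem (mem_sup_left hr)) ht, by
      rw [mem_N_iff_cj, cj_mul, ← e, cj_inv_cj]⟩, by group⟩⟩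
  obtain ⟨K', hK'⟩ := hall_exists {2}ᶜ (sl.of_le (inf_le_left : (R ⊔ K) ⊓ N[R'] ≤ _))
  obtain ⟨g, hg, l⟩ := (hK'.trans' inf_le_left (by
    rw [pr.symm.relIndex]; exact PiN.compl_compl (hR.pi.relIndex _))).sub_cj sl le_sup_right hK
  exact ⟨cj g R', hR'.cj_mem (T1 hg), nn g hg, l.trans ((cj_mono g (hK'.le.trans inf_le_right)).trans (cj_N _ _).le)⟩

end FF

namespace Am
variable (e : Am H1 H2 R q)
include e

theorem symm : Am H2 H1 R q := ⟨e.toEdge.symm, e.d2, e.d1⟩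
theorem cjj (g : G) : Am (cj g H1) (cj g H2) (cj g R) q :=
  ⟨e.toEdge.cjj g, by rw [← cj_O, e.d1, cj_VV], by rw [← cj_O, e.d2, cj_VV]⟩
theorem CV : C[VV H1] = VV H1 := e.f1.CV.trans e.d1

theorem cent (hr : r ∈ R) (nr : r ∉ VV H1) (hv : v ∈ VV H1) (h : v * r = r * v) : v ∈ C[R] :=
  e.f1.cent R e.s1 r hr (e.d1 ▸ nr) ⟨hv, mem_C1.2 h⟩

theorem inf_eq : VV H1 ⊓ VV H2 = VV H1 ⊓ C[R] := by
  obtain ⟨b, b1, b2⟩ := SetLike.not_le_iff_exists.1 e.toEdge.symm.not_le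
  exact le_antisymm (fun v hv => ⟨hv.1, e.cent (e.V2 b1) b2 hv.1 (V_comm hv.2 b1)⟩)
    (le_inf inf_le_left (e.U_eq.le.trans inf_le_left))

theorem mem2 (h1 : v ∈ VV H1) (h2 : v ∈ C[R]) : v ∈ VV H2 := (e.U_eq.le ⟨h1, h2⟩).1
theorem memC (h1 : v ∈ VV H1) (h2 : v ∈ VV H2) : v ∈ C[R] := (e.inf_eq.le ⟨h1, h2⟩).2

theorem card_R : #R = q * q * q := by
  rw [← card_mul_relIndex e.s1.O_le, e.f1.idx R e.s1, e.d1, e.f1.cV]

theorem prod : IsProd (VV H1) (VV H2) R :=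
  isProd_of_card e.V1 e.V2 (by rw [e.inf_eq, e.f1.cU R e.s1, e.card_R, e.f1.cV, e.f2.cV, mul_assoc])

theorem inv_mem' (hr : r ∈ R) (h : r * r = 1) : r ∈ VV H1 ∨ r ∈ VV H2 := by
  obtain ⟨v, hv, w, hw, rfl⟩ := e.prod.ex r hr
  by_cases n : w ∈ VV H1
  · exact .inl (mul_mem hv n)
  refine .inr (mul_mem (e.mem2 hv (e.cent (e.V2 hw) n hv ?_)) hw)
  rw [← inv_eq_of_mul_eq_one_left h, mul_inv_rev, V_inv hv, V_inv hw]

theorem ab_le (h1 : A ≤ R) (h2 : ∀ a ∈ A, a * a = 1) : A ≤ VV H1 ∨ A ≤ VV H2 := by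
  by_contra n
  obtain ⟨x, x1, x2⟩ := SetLike.not_le_iff_exists.1 (not_or.1 n).1
  obtain ⟨y, y1, y2⟩ := SetLike.not_le_iff_exists.1 (not_or.1 n).2
  have x3 := (e.inv_mem' (h1 x1) (h2 x x1)).resolve_left x2
  have y3 := (e.inv_mem' (h1 y1) (h2 y y1)).resolve_right y2
  rcases e.inv_mem' (h1 (mul_mem x1 y1)) (h2 _ (mul_mem x1 y1)) with h | h
  · exact x2 (by simpa using mul_mem h (inv_mem y3))
  · exact y2 (by simpa using mul_mem (inv_mem x3) h)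

theorem cj_cases (h : cj g (VV H1) ≤ R) : cj g (VV H1) = VV H1 ∨ cj g (VV H1) = VV H2 :=
  (e.ab_le h fun a ha => V_sq (cj_VV g H1 ▸ ha)).imp (fun l => eq_of_card_le l (by rw [card_cj]))
    fun l => eq_of_card_le l (by rw [card_cj, e.f1.cV, e.f2.cV])

theorem mem_H2 (h1 : g ∈ H1) (h2 : g ∈ N[R]) : g ∈ H2 := by
  rw [← e.f2.NV, mem_N_iff_cj]
  refine (e.symm.cj_cases (cj_le_of_mem e.V2 h2)).resolve_right fun h => e.V_ne ?_
  exact cj_eq_cj.1 ((cj_of_mem_N (V_norm _ h1)).trans h.symm)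

theorem not_comm (ha : a ∈ VV H1) (na : a ∉ C[R]) (hb : b ∈ VV H2) (nb : b ∉ C[R]) : a * b ≠ b * a :=
  fun h => na (e.cent (e.V2 hb) (fun h' => nb (e.memC h' hb)) ha h)

end Am

theorem quad {X W : Type*} [Group X] [CommGroup W] (sq : ∀ w : W, w * w = 1) (ρ : X →* MulAut W)
    (fpf : ∀ x : X, x ^ 3 = 1 → x ≠ 1 → ∀ w, ρ x w = w → w = 1) {y c : X} (y3 : y ^ 3 = 1) (y1 : y ≠ 1)
    (c3 : (y * c) ^ 3 = 1) (c1 : y * c ≠ 1) (c2 : c * c = 1) (w : W) :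
    w * ρ c w = ρ (c * y) w * ρ (y⁻¹ * c * y) (ρ (c * y) w) := by
  have ap : ∀ x x' : X, ∀ w, ρ x (ρ x' w) = ρ (x * x') w := fun x x' w => by rw [map_mul]; rfl
  have nm : ∀ x : X, x ^ 3 = 1 → x ≠ 1 → ∀ w, ρ (x * x) w = w * ρ x w := fun x x3 x1 w => by
    have := fpf x x3 x1 (w * ρ x w * ρ (x * x) w) (by
      rw [map_mul, map_mul, ap, ap, show x * (x * x) = 1 by rw [← x3, pow_succ, _root_.sq, mul_assoc], map_one,
        MulAut.one_apply, mul_comm, mul_assoc])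
    rw [eq_inv_of_mul_eq_one_right this, inv_eq_of_mul_eq_one_left (sq _)]
  have ci : c⁻¹ = c := inv_eq_of_mul_eq_one_left c2
  have yi : y⁻¹ = y * y := inv_eq_of_mul_eq_one_left (by rw [← y3, pow_succ, _root_.sq])
  have e0 : y * c * (y * c) = c * (y * y) := by
    rw [← yi, ← ci, ← mul_inv_rev, ci]
    exact eq_inv_of_mul_eq_one_left (by rw [← c3, pow_succ, _root_.sq])
  have e1 : y⁻¹ * c * y * (c * y) = y * c := by
    calc _ = y⁻¹ * y⁻¹ * (y * c * (y * c)) * y := by group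
      _ = y⁻¹ * y⁻¹ * c * (y * y * y) := by rw [e0]; group
      _ = y * c := by
        rw [show y * y * y = 1 by rw [← y3, pow_succ, _root_.sq], mul_one, ← mul_inv_rev, ← yi, inv_inv]
  have := nm _ c3 c1 w
  rw [e0, ← ap, nm y y3 y1, map_mul, ap] at this
  rw [ap, e1]
  calc w * ρ c w = w * (ρ c w * ρ (c * y) w) * ρ (c * y) w := by
        rw [mul_assoc, mul_assoc, sq, mul_one]
    _ = _ := by rw [this, ← mul_assoc, sq, one_mul, mul_comm]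

theorem mul_cube (hc : IsCIT G) (hy : y ∈ H) (y3 : y ^ 3 = 1) (y1 : y ≠ 1) (ha : a ∈ VV H) : (y * a) ^ 3 = 1 := by
  have m1 := conj_mem (V_norm H hy) ha
  have m2 := conj_mem (V_norm H hy) m1
  have y3' : y * y * y = 1 := by rw [← y3, pow_succ, sq]
  have e : (y * a) ^ 3 = y * a * y⁻¹ * (y * (y * a * y⁻¹) * y⁻¹) * a := by
    calc _ = y * a * y⁻¹ * (y * (y * a * y⁻¹) * y⁻¹) * (y * y * y) * a := by rw [pow_succ, sq]; group
      _ = _ := by rw [y3', mul_one]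
  refine hc.eq_one ((V_pig H).elt (e ▸ mul_mem (mul_mem m1 m2) ha))
    (pie_odd.2 (by rw [orderOf_eq_prime (p := 3) y3 y1]; decide)) y1 (mem_C1.1 (C1_symm (C1_of_conj ?_)))
  calc _ = y * (y * a * y⁻¹) * y⁻¹ * (y * y * y * a * (y * y * y)⁻¹) * (y * a * y⁻¹) := by rw [e]; group
    _ = _ := by rw [y3', e, one_mul, inv_one, mul_one, ← V_comm m1 (mul_mem m2 ha), mul_assoc (y * a * y⁻¹)]

theorem Am.no_rep (e : Am H1 H2 R q) {W : Type*} [CommGroup W] (sq : ∀ w : W, w * w = 1) (ρ : G →* MulAut W)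
    (inj : ∀ x, ρ x = 1 → x = 1) (fpf : ∀ x : G, x ^ 3 = 1 → x ≠ 1 → ∀ w, ρ x w = w → w = 1) : False := by
  obtain ⟨z, hz, z1⟩ := exists_U e.f1.ne e.s1
  have key : ∀ H : Subgroup G, FF H q → Syl 2 R H → z ∈ VV H → ∃ a ∈ VV H, a ∉ C[R] ∧
      ∃ α : MulAut W, ∀ w, w * ρ a w = α w * ρ z (α w) := fun H F hR zH => by
    obtain ⟨y, hy, y3, y1, h⟩ := F.exists_three hR
    have m := conj_mem (V_norm H hy) zH
    refine ⟨_, m, h z ⟨zH, hz.2⟩ z1, ρ (y * z * y⁻¹ * y), fun w => ?_⟩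
    have := quad sq ρ fpf y3 y1 (mul_cube F.cit hy y3 y1 m) (fun e => y1 (by
      rw [eq_inv_of_mul_eq_one_left e, V_inv m] at y3 ⊢
      rwa [pow_succ, _root_.sq, V_sq m, one_mul] at y3)) (V_sq m) w
    rwa [show y⁻¹ * (y * z * y⁻¹) * y = z by group] at this
  obtain ⟨a, a1, a2, α, ha⟩ := key H1 e.f1 e.s1 hz.1
  obtain ⟨b, b1, b2, β, hb⟩ := key H2 e.f2 e.s2 (e.mem2 hz.1 hz.2)
  have ap : ∀ x x' : G, ∀ w, ρ (x * x') w = ρ x (ρ x' w) := fun x x' w => by rw [map_mul]; rfl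
  have fx : ∀ (a b : G) (α β : MulAut W), b * b = 1 → (∀ w, w * ρ a w = α w * ρ z (α w)) →
      (∀ w, w * ρ b w = β w * ρ z (β w)) → ∀ w, ρ b (ρ a w) = w * ρ b w * ρ a w := fun a b α β b2 ha hb w => by
    have := hb (β.symm (α w))
    rw [MulEquiv.apply_symm_apply, ← ha] at this
    have h2 : ρ b (w * ρ a w) = w * ρ a w := by
      rw [← this, map_mul, ← ap, b2, map_one, MulAut.one_apply, mul_comm]
    rw [map_mul] at h2
    rw [mul_right_comm, ← h2, mul_right_comm, sq, one_mul]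
  refine e.not_comm a1 a2 b1 b2 (mul_inv_eq_one.1 (inj _ ?_))
  rw [map_mul, map_inv, mul_inv_eq_one]
  ext w
  rw [ap, ap, fx a b α β (V_sq b1) ha hb, fx b a β α (V_sq a1) hb ha, mul_right_comm]

universe u

theorem la_aux (n : ℕ) : ∀ (G : Type u) [Group G] [Finite G], Nat.card G = n → IsCIT G → LA G := by
  induction n using Nat.strong_induction_on with | _ n ih =>
  intro G _ _ hn hc H R R' ne hR hR' n'
  by_contra nl
  have := normal_subgroupOf (O_norm {2} H)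
  let φ := mquo H ((DD H).subgroupOf H)
  have hk : φ.ker = DD H := (mquo_ker _ _).trans (map_subgroupOf_eq_of_le (O_le _ _))
  have ht : φ.im H = ⊤ := mquo_top _ _
  have pk : PiG {2} φ.ker := by rw [hk]; exact O_pig _ _
  have hc' := hc.im φ pk ht
  have lt : Nat.card (H ⧸ (DD H).subgroupOf H) < n := by
    have := PHom.card_im_lt (φ := φ) (A := H) le_rfl (by rwa [hk, inf_eq_right.2 (O_le _ _)])
    rw [ht, card_top] at this
    exact this.trans_le (hn ▸ card_le_card_group H)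
  have h0 := im_O (φ := φ) (A := H) (π := {2}) le_rfl (pk.of_le inf_le_right)
  rw [ht, (PHom.im_eq_bot_iff (φ := φ) (A := DD H) (O_le _ H)).2 hk.ge] at h0
  have s1 := hR.im (φ := φ) le_rfl
  have s2 := hR'.im (φ := φ) le_rfl
  rw [ht] at s1 s2
  obtain ⟨H1, H2, T, q, e⟩ := exists_am hc' (ih _ lt _ rfl hc') h0.symm s1 s2
    (fun e => n' (PHom.im_inj (φ := φ) hR.le hR'.le (hk.le.trans hR.O_le) (hk.le.trans hR'.O_le) e))
    fun e => nl (((PHom.im_eq_bot_iff (φ := φ) (inf_le_left.trans hR.le)).1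
      (eq_bot_iff.2 ((φ.im_inf_le _ _).trans e.le))).trans hk.le)
  let f : H →* MulAut (VV H) := (VV H).normalizerMonoidHom.comp (inclusion (V_norm H))
  have hf : ∀ (h : H) (w : VV H), (f h w : G) = h * w * (h : G)⁻¹ := fun h w => rfl
  let _ : CommGroup (VV H) := { (inferInstance : Group (VV H)) with
    mul_comm := fun a b => Subtype.ext (V_comm a.2 b.2) }
  let ρ := QuotientGroup.lift ((DD H).subgroupOf H) f fun h hh => by
    ext w; exact (hf h w).trans (conj_C' (V_cent H w.2) hh)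
  refine e.no_rep (fun w => Subtype.ext (V_sq w.2)) ρ (fun x => ?_) ?_
  · refine QuotientGroup.induction_on x fun h e => ?_
    refine (QuotientGroup.eq_one_iff h).2 (C_V hc ne ⟨h.2, mem_C.2 fun w hw => ?_⟩)
    have := congrArg Subtype.val (DFunLike.congr_fun e ⟨w, hw⟩)
    exact (mem_C1.1 (C1_of_conj ((hf h _).symm.trans this))).symm
  · intro x x3 x1 w e
    obtain ⟨k, k1, k2, rfl⟩ := exists_lift φ ht (π := {2}ᶜ) (y := x)
      (pie_odd.2 (by rw [orderOf_eq_prime (p := 3) x3 x1]; decide))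
    rw [φ.app_eq k1] at e
    refine Subtype.ext (hc.eq_one ((V_pig H).elt w.2) k2 (fun e => x1 (e ▸ φ.app_one)) ?_)
    exact (mem_C1.1 (C1_of_conj ((hf ⟨k, k1⟩ w).symm.trans (congrArg Subtype.val e)))).symm

theorem IsCIT.la (h : IsCIT G) : LA G := la_aux _ G rfl h

end Cfsg.Agent.CIT
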