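import Cfsg.Agent.CIT.Q

/-! # CIT groups: the case `q = 4`, the Sylow subgroup -/

set_option autoImplicit false
set_option linter.unusedVariables false
set_option linter.unusedSectionVars false

namespace Cfsg.Agent.CIT
open Cfsg Cfsg.Agent.BG Cfsg.Agent.Inv Cfsg.Agent.SE Subgroup
open scoped commutatorElement

variable {G : Type*} [Group G] [Finite G]
variable {A B D E H H1 H2 K L M P R R' R'' R1 R2 S S1 S2 T U V W X Y : Subgroup G}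
  {a a' b c g h k r s t u u' v w w1 w2 x y z : G} {q n m : ℕ}

namespace Am
section
variable (e : Am H1 H2 R q)
include e

theorem mem_H1 (h : cj g (VV H1) = VV H1) : g ∈ H1 := e.f1.NV.le (mem_N_iff_cj.2 h)

theorem sw_V (hg : g ∈ N[R]) (n : g ∉ H1) : cj g (VV H1) = VV H2 ∧ cj g (VV H2) = VV H1 := by
  have h1 := (e.cj_cases (cj_le_of_mem e.V1 hg)).resolve_left (mt e.mem_H1 n)
  exact ⟨h1, (e.symm.cj_cases (cj_le_of_mem e.V2 hg)).resolve_left fun h => e.V_ne (cj_eq_cj.1 (h1.trans h.symm))⟩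

theorem mul_mem_H1 (hg : g ∈ N[R]) (n : g ∉ H1) (hk : k ∈ N[R]) (n' : k ∉ H1) : g * k ∈ H1 :=
  e.mem_H1 (by rw [cj_mul, (e.sw_V hk n').1, (e.sw_V hg n).2])

theorem odd_mem (hg : g ∈ N[R]) (o : PiE {2}ᶜ g) : g ∈ H1 := by
  by_contra n; exact n (mem_of_sq_mem (pie_odd.1 o) (e.mul_mem_H1 hg n hg n))

theorem two_mem (hT : PiG {2} T) (h1 : R ≤ T) (h2 : x ∈ T) (h3 : x ∈ H1) : x ∈ R :=
  (e.s1.max (hT.of_le inf_le_left) inf_le_right (le_inf h1 e.s1.le)).le ⟨h2, h3⟩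

theorem N_le (hS : Syl 2 R ⊤) : N[R] ≤ H1 := fun g hg => by
  obtain ⟨a, ha, b, hb, rfl, h1, h2⟩ := exists_pi_part {2} g
  exact mul_mem (e.s1.le (hS.le_of_norm (pig_zpowers.2 h1) le_top (zpowers_le.2 (zpowers_le.2 hg ha)) (mem_zpowers a)))
    (e.odd_mem (zpowers_le.2 hg hb) h2)

theorem idx_two (hT : PiG {2} T) (h1 : R ≤ T) (h2 : T ≤ N[R]) (hA : A ≤ T) (ha : a ∈ T) (a2 : a * a = 1)
    (na : a ∉ R) : R.relIndex A ≤ 2 := by
  classical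
  refine le_trans ?_ (card_zpowers_of_pow (x := a) p2 (by rwa [sq]) fun h => na (h ▸ one_mem R)).le
  refine idx_le (fun x => if x ∈ R then 1 else a) (fun x hx => by split_ifs; exacts [one_mem _, mem_zpowers a])
    fun x hx y hy h => ?_
  split_ifs at h with e1 e2 e2
  · exact mul_mem (inv_mem e1) e2
  · exact absurd (h ▸ one_mem R) na
  · exact absurd (h ▸ one_mem R) na
  · exact e.two_mem hT h1 (mul_mem (inv_mem (hA hx)) (hA hy)) (e.mul_mem_H1 (inv_mem (h2 (hA hx)))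
      (fun h => e1 (e.two_mem hT h1 (hA hx) (inv_mem_iff.1 h))) (h2 (hA hy)) fun h => e2 (e.two_mem hT h1 (hA hy) h))

theorem mem_U_of_fix (hg : g ∈ N[R]) (n : g ∉ H1) (hr : r ∈ R) (r2 : r * r = 1) (h : g * r * g⁻¹ = r) :
    r ∈ VV H1 ⊓ C[R] := by
  rw [← e.inf_eq]
  rcases e.inv_mem' hr r2 with h1 | h1
  · exact ⟨h1, by rw [← (e.sw_V hg n).1, ← h]; exact mem_cj_conj.2 h1⟩
  · exact ⟨by rw [← (e.sw_V hg n).2, ← h]; exact mem_cj_conj.2 h1, h1⟩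
end

variable (e : Am H1 H2 R 4)
include e

theorem elem_le (hT : PiG {2} T) (h1 : R ≤ T) (h2 : T ≤ N[R]) (hA : A ≤ T) (ab : Abelem 2 A) (c : #A = 16) :
    A ≤ R := fun a ha => by
  by_contra na
  have sq : ∀ a ∈ A, a * a = 1 := fun a ha => by rw [← _root_.sq]; exact ab.pow a ha
  have c1 := e.idx_two hT h1 h2 hA (hA ha) (sq a ha) na
  have c2 := card_inf_mul_relIndex R A
  have c3 : #(R ⊓ A) ≤ 4 := (card_le (A := R ⊓ A) fun r hr => e.mem_U_of_fix (h2 (hA ha))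
    (fun h => na (e.two_mem hT h1 (hA ha) h)) hr.1 (sq r hr.2) (conj_C' (ab.abel hr.2) ha)).trans
      (e.f1.cU R e.s1).le
  nlinarith

theorem syl_norm (hS : PiG {2} S) (h1 : R ≤ S) : S ≤ N[R] := by
  have l : R ≤ S ⊓ N[R] := le_inf h1 (normG R)
  refine (hS.nil.eq_of_norm (K := S ⊓ N[R]) inf_le_left fun g hg => ⟨hg.1, mem_N_of_cj_le ?_⟩).ge.trans inf_le_right
  have k : ∀ H : Subgroup G, VV H ≤ R → #(VV H) = 16 → cj g (VV H) ≤ R := fun H a1 a2 =>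
    e.elem_le (hS.of_le inf_le_left) l inf_le_right (cj_le_of_mem (a1.trans l) hg.2) ((V_ab H).cj g)
      (by rw [card_cj, a2])
  rw [← e.prod.sup, cj_sup, e.prod.sup]
  exact sup_le (k _ e.V1 e.f1.cV) (k _ e.V2 e.f2.cV)

theorem exists_t (n : ¬ Syl 2 R ⊤) :
    ∃ t, orderOf t = 2 ∧ t ∈ N[R] ∧ t ∉ H1 ∧ ∃ u ∈ VV H1 ⊓ C[R], t * u * t⁻¹ ≠ u := by
  obtain ⟨S, hS, l⟩ := syl_superset p2 le_top e.s1.pi
  obtain ⟨s, s1, s2⟩ := SetLike.exists_of_lt (lt_norm_of_not_syl p2 hS l n)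
  obtain ⟨K, sd, hK⟩ := exists_K e.s1
  have nB : N[R] ≤ N[H1 ⊓ N[R]] := fun g hg => mem_N_of fun a ha => ⟨by
    by_cases gH : g ∈ H1
    · exact conj_mem (normG _ gH) ha.1
    · exact e.mul_mem_H1 (mul_mem hg ha.2) (fun h => gH (by simpa using mul_mem h (inv_mem (mem_inf.1 ha).1)))
        (inv_mem hg) (mt inv_mem_iff.1 gH), conj_mem (normG _ hg) ha.2⟩
  obtain ⟨b, hb, n, hn, rfl⟩ := (hK.frattini (sd.sup ▸ e.s1.pi.sol.sup_l (sol_of_odd (odd_of_pig2 hK.pi)) sd.norm)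
    inf_le_right nB).ex s s1.2
  obtain ⟨t, ht, o, ho, rfl, h1, h2⟩ := exists_pi_part {2} n
  have t1 := zpowers_le.2 hn ht
  have t2 : t ∉ H1 := fun h => s2 (e.two_mem hS.pi l s1.1
    (mul_mem hb.1 (mul_mem h (e.odd_mem (zpowers_le.2 hn ho).1 h2))))
  obtain ⟨k, hk, k1⟩ := exists_mem_ne_one (A := K) fun h => by
    have c2 := e.f1.card_B e.s1
    have := card_pos R
    rw [← sd.card, h, card_bot'] at c2
    omega
  have hc := e.f1.cit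
  have t3 : t * t ∈ R := e.two_mem (e.s1.pi.sup_l (pig_zpowers.2 h1) (zpowers_le.2 t1.1)) le_sup_left
    (mem_sup_right (mul_mem (mem_zpowers t) (mem_zpowers t))) (e.mul_mem_H1 t1.1 t2 t1.1 t2)
  have t4 : t * t = 1 := hc.eq_one (e.s1.pi.elt t3) (hK.pi.elt hk) k1 (mem_C.1 ((inf_N_eq_inf_C sd.norm
    (hK.pi.inf_bot' e.s1.pi)).le ⟨t3, mul_mem t1.2 t1.2⟩).2 k hk).symm
  have t5 : t ≠ 1 := fun h => t2 (h ▸ one_mem _)
  refine ⟨t, ord2_iff.2 ⟨t4, t5⟩, t1.1, t2, ?_⟩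
  by_contra h
  push Not at h
  have tC : t ∈ C[VV H1 ⊓ C[R]] := mem_C.2 fun u hu => (mem_C1.1 (C1_of_conj (h u hu))).symm
  obtain ⟨u, hu, u1⟩ := exists_U e.f1.ne e.s1
  have := hc u (t * k * t⁻¹ * k⁻¹) ((V_pig _).elt hu.1) u1
    (hK.pi.elt (mul_mem (conj_mem t1.2 hk) (inv_mem hk))) (mem_C.1 (by
      simpa [mul_assoc] using mul_mem tC (conj_mem (normC norm_U (hK.le hk)) (inv_mem tC))) u hu)
  exact k1 (hc t k h1 t5 (hK.pi.elt hk) (by rw [← mul_inv_eq_iff_eq_mul, ← mul_inv_eq_one]; exact this))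

theorem syl (hi : ∀ M : Subgroup G, M.index ≠ 2) : Syl 2 R ⊤ := by
  by_contra n
  obtain ⟨t, t2, tN, tH, u, hu, ne⟩ := e.exists_t n
  have tt := sq_of_ord2 t2
  have ti := inv_of_ord2 t2
  obtain ⟨S, hS, l⟩ := syl_superset p2 le_top (e.s1.pi.sup_l (pig_zpowers.2 (pie_sq tt)) (zpowers_le.2 tN))
  have RS := le_sup_left.trans l
  have tS := l (mem_sup_right (mem_zpowers t))
  have SN := e.syl_norm hS.pi RS
  have tR : t ∉ R := fun h => tH (e.s1.le h)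
  obtain ⟨sw1, sw2⟩ := e.sw_V tN tH
  have nU : t ∈ N[VV H1 ⊓ C[R]] := by rw [mem_N_iff_cj, ← e.inf_eq, cj_inf, sw1, sw2, inf_comm]
  obtain ⟨v, v1, v2⟩ := SetLike.not_le_iff_exists.1 e.not_le
  have v3 : t * v * t⁻¹ ∈ VV H2 := sw1 ▸ mem_cj_conj.2 v1
  have v4 : t * v * t⁻¹ ∉ VV H1 := by rw [← sw2, mem_cj_conj]; exact v2
  have z1 := e.f1.comm_U e.s1 v1 (e.V2 v3)
  have z2 : v * (t * v * t⁻¹) * v⁻¹ * (t * v * t⁻¹)⁻¹ ≠ 1 := fun h => v2 (e.mem2 v1 (e.cent (e.V2 v3) v4 v1 (by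
    rw [← mul_inv_eq_iff_eq_mul, ← mul_inv_eq_one]; exact h)))
  have tv : t * (t * v * t⁻¹) * t⁻¹ = v := by
    rw [show t * (t * v * t⁻¹) * t⁻¹ = t * t * v * (t * t)⁻¹ by group, tt]; simp
  generalize hv' : t * v * t⁻¹ = v' at v3 v4 z1 z2 tv
  rw [V_inv v1, V_inv v3] at z1 z2
  have z3 : t * (v * v' * v * v') * t⁻¹ = v * v' * v * v' := by
    calc _ = (t * v * t⁻¹) * (t * v' * t⁻¹) * (t * v * t⁻¹) * (t * v' * t⁻¹) := by group
      _ = (v⁻¹ * v'⁻¹ * v⁻¹ * v'⁻¹)⁻¹ := by rw [hv', tv]; group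
      _ = _ := by rw [V_inv v1, V_inv v3, V_inv z1.1]
  have m := conj_mem nU hu
  have z4 : t * u * t⁻¹ = v * v' * v * v' * u := by
    have a1 : t * u * t⁻¹ * u⁻¹ ∈ VV H1 ⊓ C[R] ⊓ C1[t] := mem_inf.2 ⟨mul_mem m (inv_mem hu), C1_symm (C1_of_conj (by
      calc _ = t * t * u * (t * t)⁻¹ * (t * u * t⁻¹)⁻¹ := by group
        _ = _ := by rw [tt, V_inv m.1, V_inv hu.1, ← V_comm hu.1 m.1]; simp))⟩
    have a2 : t * u * t⁻¹ * u⁻¹ ≠ 1 := fun h => ne (mul_inv_eq_one.1 h)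
    have c := card_sub_of_sq (E := VV H1 ⊓ C[R]) (X := VV H1 ⊓ C[R] ⊓ C1[t]) p2 (e.f1.cU R e.s1)
      (lt_of_le_of_ne inf_le_left fun h => ne (by
        rw [← mem_C1.1 (h.ge hu).2, mul_inv_cancel_right])) (ne_bot_of_mem a1 a2)
    have := eq_zpowers_of_prime (c ▸ p2) (mem_inf.2 ⟨z1, C1_symm (C1_of_conj z3)⟩) z2
    rw [← mul_inv_eq_iff_eq_mul]
    exact (mem_zp_two (by rw [sq, V_sq z1.1]) (this.ge a1)).resolve_left a2
  have y1 : v * v' * u ∈ C1[t] := C1_symm (C1_of_conj (by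
    calc _ = (t * v * t⁻¹) * (t * v' * t⁻¹) * (t * u * t⁻¹) := by group
      _ = v' * (v * v) * v' * v * v' * u := by rw [hv', tv, z4]; group
      _ = _ := by rw [V_sq v1, mul_one, V_sq v3, one_mul]))
  have y2 : v * v' * u * (v * v' * u) = v * v' * v * v' := by
    calc _ = v * v' * (u * (v * v') * u⁻¹) * (u * u) := by group
      _ = _ := by rw [conj_C hu.2 (mul_mem (e.V1 v1) (e.V2 v3)), V_sq hu.1]; group
  generalize v * v' * v * v' = z at z1 z2 z3 y2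
  generalize v * v' * u = y at y1 y2
  have hc := e.f1.cit
  have Sz : C1[z] = S := hS.max (hc.pigC1 ((V_pig _).elt z1.1) z2) le_top fun s hs => by
    by_cases sH : s ∈ H1
    · exact C1_of_conj (conj_C' z1.2 (e.two_mem hS.pi RS hs sH))
    · have := mul_mem (C1_of_conj (conj_C' z1.2 (e.two_mem hS.pi RS (mul_mem hs tS)
        (e.mul_mem_H1 (SN hs) sH tN tH)))) (inv_mem (C1_of_conj z3))
      rwa [mul_inv_cancel_right] at this
  obtain ⟨P, rfl⟩ := hS.exists_sylow_top p2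
  have i2 : R.relIndex (P : Subgroup G) = 2 := by
    have a1 := e.idx_two hS.pi RS SN le_rfl tS tt tR
    have a2 := relIndex_pos R P
    have a3 : R.relIndex (P : Subgroup G) ≠ 1 := fun h => tR (relIndex_eq_one.1 h tS)
    omega
  obtain ⟨g, hg⟩ : ∃ g, g * t * g⁻¹ ∈ R := by
    by_contra h
    obtain ⟨M, -, h2, -⟩ := PLoc.thompson_transfer P i2 t2 (not_exists.1 h)
    exact hi M h2
  obtain ⟨h, hh⟩ : ∃ h, h * t * h⁻¹ = z := by
    have g1 := conj_ne (ne_one_of_ord2 t2) g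
    rcases e.inv_mem' hg (sq_of_ord2 (ord_conj t2 g)) with h | h
    · obtain ⟨k, -, hk⟩ := e.f1.conj h g1 z1.1 z2
      exact ⟨k * g, by rw [← hk]; group⟩
    · obtain ⟨k, -, hk⟩ := e.f2.conj h g1 (e.mem2 z1.1 z1.2) z2
      exact ⟨k * g, by rw [← hk]; group⟩
  have y3 : h * y * h⁻¹ ∈ (P : Subgroup G) := by rw [← Sz, ← hh, ← cj_C1]; exact mem_cj_conj.2 y1
  have y4 : h * y * h⁻¹ * (h * y * h⁻¹) = h * z * h⁻¹ := by rw [← y2]; group
  have y5 : h * z * h⁻¹ ∈ C[R] := by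
    generalize h * y * h⁻¹ = s at y3 y4
    by_cases sH : s ∈ H1
    · have := e.two_mem hS.pi RS y3 sH
      rw [← y4]
      exact e.memC (e.d1 ▸ e.f1.sq_mem e.s1 this) (e.d2 ▸ e.f2.sq_mem e.s2 this)
    · refine (e.mem_U_of_fix (SN y3) sH (y4 ▸ e.two_mem hS.pi RS (mul_mem y3 y3)
        (e.mul_mem_H1 (SN y3) sH (SN y3) sH)) ?_ (by rw [← y4]; group)).2
      rw [show h * z * h⁻¹ * (h * z * h⁻¹) = h * (z * z) * h⁻¹ by group, V_sq z1.1]; simp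
  have l1 : cj h⁻¹ (VV H1) ≤ C1[t] := by
    rw [← le_cj_iff, cj_C1, hh]; exact e.V1.trans (le_C1_iff.2 z1.2)
  have l2 : cj h⁻¹ (VV H1) ≤ C1[z] := by
    rw [← le_cj_iff, cj_C1]; exact e.V1.trans (le_C1_iff.2 y5)
  rcases e.cj_cases (e.elem_le hS.pi RS SN (l2.trans Sz.le) ((V_ab _).cj _) (by rw [card_cj, e.f1.cV])) with h | h
  · exact tR (e.V1 (e.CV.le (le_C1_iff.1 (h ▸ l1))))
  · exact tR (e.V2 (e.symm.CV.le (le_C1_iff.1 (h ▸ l1))))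

end Am

end Cfsg.Agent.CIT
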