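import Cfsg.Agent.CIT.E1

/-! # CIT groups: the case `q = 4`, points and lines -/

set_option autoImplicit false
set_option linter.unusedVariables false
set_option linter.unusedSectionVars false

namespace Cfsg.Agent.CIT
open Cfsg Cfsg.Agent.BG Cfsg.Agent.Inv Cfsg.Agent.SE Subgroup
open scoped commutatorElement

variable {G : Type*} [Group G] [Finite G]
variable {A B D E H H1 H2 K L L' M P P' R R' R'' R1 R2 R3 R4 S S1 S2 T U V W X Y : Subgroup G}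
  {a a' b c g h k r s t u u' v w w1 w2 x y z : G} {q n m : ℕ}

theorem Am.uniq (e : Am P L R q) (e' : Am P' L R q) : P = P' := by
  rcases e.ab_le e'.V1 fun a ha => V_sq ha with h | h
  · rw [← e.f1.NV, ← e'.f1.NV, eq_of_card_le h (by rw [e.f1.cV, e'.f1.cV])]
  · exact absurd h e'.not_le

theorem no4 (e1 : Am P L R1 q) (e2 : Am P' L R2 q) (e3 : Am P L' R3 q) (e4 : Am P' L' R4 q) : P = P' ∨ L = L' := by
  by_contra h
  obtain ⟨n1, n2⟩ := not_or.1 h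
  have key : ∀ {P R1 R3 : Subgroup G}, Am P L R1 q → Am P L' R3 q → ∃ a ∈ R1, a ∈ VV L' ∧ a ∉ DD L :=
    fun e1 e3 => by
      obtain ⟨a, ha, a1⟩ := exists_U e3.f1.ne e3.s1
      refine ⟨a, e1.V1 ha.1, e3.mem2 ha.1 ha.2, fun h => a1 (e1.f1.U_inf e1.s1 e3.s1 ?_
        (e1.memC ha.1 (e1.d2 ▸ h)) ha.2 ((V_pig _).elt ha.1))⟩
      rintro rfl
      exact n2 (e1.symm.uniq e3.symm)
  obtain ⟨a, a1, a2, a3⟩ := key e1 e3
  obtain ⟨b, b1, b2, b3⟩ := key e2 e4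
  obtain ⟨o, o1⟩ := e1.f2.odd e1.s2 e2.s2 (by rintro rfl; exact n1 (e1.uniq e2)) a1 b1 a3 b3
    (V_sq a2 ▸ one_mem _) (V_sq b2 ▸ one_mem _)
  exact o1 (((V_pig _).elt (mul_mem a2 b2)).eq_one o)

namespace Am
variable (e : Am H1 H2 R q)
include e

theorem cj1 (hg : g ∈ H1) : Am H1 (cj g H2) (cj g R) q := by simpa [cj_of_mem hg] using e.cjj g
theorem cj2 (hg : g ∈ H2) : Am (cj g H1) H2 (cj g R) q := (e.symm.cj1 hg).symm

theorem inf_B : H1 ⊓ H2 = H1 ⊓ N[R] := le_antisymm (le_inf inf_le_left (e.prod.sup ▸ normY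
  (inf_le_left.trans (V_norm _)) (inf_le_right.trans (V_norm _)))) fun g hg => ⟨hg.1, e.mem_H2 hg.1 hg.2⟩

theorem inv_H1 (ht : t ∈ H1) (t2 : t * t = 1) :
    t ∈ VV H1 ∨ ∃ h ∈ H1, ∃ v ∈ (VV H2 : Set G) \ VV H1, h * v * h⁻¹ = t := by
  obtain ⟨h, hh, l⟩ := e.s1.sub_cj p2 (zpowers_le.2 ht) (pig_zpowers.2 (pie_sq t2))
  by_cases n : t ∈ VV H1
  · exact .inl n
  have := ((e.cj1 hh).inv_mem' (l (mem_zpowers t)) t2).resolve_left n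
  rw [← cj_VV, mem_cj] at this
  exact .inr ⟨h, hh, _, ⟨this, fun h' => n (by simpa [mul_assoc] using conj_mem (V_norm _ hh) h')⟩, by group⟩

variable (hS : Syl 2 R ⊤)
include hS

theorem C1_eq (hu : u ∈ VV H1) (u1 : u ≠ 1) : ∃ h ∈ H1, C1[u] = cj h R := by
  obtain ⟨R', hR', h1⟩ := e.f1.exists_syl hu
  obtain ⟨h, hh, rfl⟩ := e.s1.conj p2 hR'
  exact ⟨h, hh, (hS.cj_top h).max (e.f1.cit.pigC1 ((V_pig _).elt hu) u1) le_top (le_C1_iff.2 h1)⟩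

theorem not_conj : cj g (VV H1) ≠ VV H2 := fun h => by
  have h1 : cj g H1 = H2 := by rw [← e.f1.NV, cj_N, h, e.f2.NV]
  obtain ⟨k, hk, e'⟩ := Syl.conj (h1 ▸ e.s1.cj g) p2 e.s2
  have := V_norm _ (e.N_le hS (mem_N_iff_cj.2 ((cj_mul k g R).trans e')))
  rw [mem_N_iff_cj, cj_mul, h, cj_of_mem_N (V_norm _ hk)] at this
  exact e.V_ne this.symm

theorem pt_uniq (hz : z ∈ VV H1) (z1 : z ≠ 1) (h : g * z * g⁻¹ ∈ VV H1) : g ∈ H1 := by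
  obtain ⟨k, hk, e'⟩ := e.C1_eq hS h (conj_ne z1 g)
  have : cj (k⁻¹ * g) (VV H1) ≤ R := by
    rw [cj_mul, ← le_cj_iff, ← e', ← cj_C1]
    exact cj_mono g ((V_ab _).abel.trans (C_le_C1 hz))
  simpa using mul_mem hk (e.mem_H1 ((e.cj_cases this).resolve_right (e.not_conj hS)))

theorem flag (hv : v ∈ VV H1) (v1 : v ≠ 1) (h : v ∈ cj g (VV H2)) : ∃ k ∈ H1, cj k H2 = cj g H2 := by
  obtain ⟨k, hk, e'⟩ := e.C1_eq hS hv v1
  have : cj (k⁻¹ * g) (VV H2) ≤ R := by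
    rw [cj_mul, ← le_cj_iff, ← e']
    exact ((V_ab _).cj g).abel.trans (C_le_C1 h)
  have := e.symm.mem_H1 ((e.symm.cj_cases this).resolve_right (e.symm.not_conj hS))
  exact ⟨k, hk, by rw [← mul_inv_cancel_left k g, cj_mul k, cj_of_mem this]⟩

theorem near (hw : w ∈ H2) (nw : cj w R ≠ R) (z2 : z * z = 1) (z1 : z ≠ 1) (h : H1 ⊓ C1[z] ≠ ⊥) :
    z ∈ H1 ∨ ∃ h ∈ H1, ∃ v ∈ (cj w (VV H1) : Set G) \ VV H2, h * v * h⁻¹ = z := by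
  obtain ⟨t, ht, t2⟩ := PiG.exists_inv ((e.f1.cit.pigC1 (pie_sq z2) z1).of_le inf_le_right) h
  have t1 := ne_one_of_ord2 t2
  rcases e.inv_H1 ht.1 (sq_of_ord2 t2) with h | ⟨h, hh, v, hv, rfl⟩
  · obtain ⟨k, hk, e'⟩ := e.C1_eq hS h t1
    exact .inl ((e.s1.cj_mem hk).le (e'.le (C1_symm ht.2)))
  have v1 : v ≠ 1 := fun h => hv.2 (h ▸ one_mem _)
  obtain ⟨k, hk, e'⟩ := e.symm.C1_eq hS hv.1 v1
  obtain ⟨r, hr, e''⟩ := e.f2.trans_R e.s2 (e.s2.cj_mem hw) (e.s2.cj_mem hk) nw.symm fun h =>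
    hv.2 (e.symm.mem2 hv.1 (le_C1_iff.1 (h.le.trans e'.ge)))
  have m : (h * r)⁻¹ * z * (h * r) ∈ cj w R := by
    rw [← mem_cj, cj_mul, e'', ← e', cj_C1]; exact C1_symm ht.2
  have hr' := mul_mem hh (e.s1.le hr)
  by_cases n : (h * r)⁻¹ * z * (h * r) ∈ VV H2
  · exact .inl (by simpa [mul_assoc] using conj_mem (normG _ hr') (e.s1.le (e.V2 n)))
  refine .inr ⟨_, hr', _, ⟨?_, n⟩, by group⟩
  rw [cj_VV]
  exact ((e.cj2 hw).inv_mem' m (by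
    rw [show (h * r)⁻¹ * z * (h * r) * ((h * r)⁻¹ * z * (h * r)) = (h * r)⁻¹ * (z * z) * (h * r) by group, z2]
    simp)).resolve_right n

theorem not_H1 (hw : w ∈ H2) (nw : cj w R ≠ R) (hv : v ∈ cj w (VV H1)) (nv : v ∉ VV H2) : v ∉ H1 := fun h => by
  have v1 : v ≠ 1 := fun h => nv (h ▸ one_mem _)
  have wH : w ∉ H1 := fun h => nw (cj_of_mem_N (e.inf_B.le ⟨h, hw⟩).2)
  rcases e.inv_H1 h (V_sq (cj_VV w H1 ▸ hv)) with h | ⟨h, hh, x, hx, rfl⟩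
  · exact wH (inv_mem_iff.1 (e.pt_uniq hS h v1 (by simpa using mem_cj.1 hv)))
  obtain ⟨k, hk, e'⟩ := (e.cj2 hw).flag (hS.cj_top w) (cj_VV w H1 ▸ hv) v1 (mem_cj_conj.2 hx.1)
  rcases no4 e (e.cj2 hw) (e.cj1 hh) (e' ▸ (e.cj2 hw).cj1 hk) with h | h
  · exact wH (e.f1.N_le (mem_N_iff_cj.2 h.symm))
  · exact nv (conj_mem (V_norm _ (e.f2.N_le (mem_N_iff_cj.2 h.symm))) hx.1)

theorem exists_conj (hu : u ∈ VV H1 ⊓ C[R]) (u1 : u ≠ 1) (z2 : orderOf z = 2) : ∃ g, g * u * g⁻¹ = z := by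
  obtain ⟨g, -, l⟩ := hS.sub_cj p2 le_top (pig_zpowers.2 (pie_sq (sq_of_ord2 z2)))
  obtain ⟨r, hr, rfl⟩ := exists_of_mem_cj (l (mem_zpowers z))
  rw [orderOf_conj'] at z2
  rcases e.inv_mem' hr (sq_of_ord2 z2) with h | h
  · obtain ⟨k, -, rfl⟩ := e.f1.conj hu.1 u1 h (ne_one_of_ord2 z2)
    exact ⟨g * k, by group⟩
  · obtain ⟨k, -, rfl⟩ := e.f2.conj (e.mem2 hu.1 hu.2) u1 h (ne_one_of_ord2 z2)
    exact ⟨g * k, by group⟩

theorem card_G : {z : G | orderOf z = 2}.ncard * #R = Nat.card G := by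
  obtain ⟨u, hu, u1⟩ := exists_U e.f1.ne e.s1
  have := ncard_conj (P := ⊤) (L := R) (Z := {u}) le_top (fun l hl z hz => by rw [hz, conj_C' hu.2 hl]; rfl)
    fun h _ z hz e' => (hS.max (e.f1.cit.pigC1 ((V_pig _).elt hu.1) u1) le_top (le_C1_iff.2 hu.2)).le
      (C1_of_conj (by rwa [hz] at e'))
  rw [Set.ncard_singleton, mul_one, card_top] at this
  rw [← this]
  congr 2
  ext z
  exact ⟨fun hz => (e.exists_conj hS hu u1 hz).imp fun g hg => ⟨mem_top g, u, rfl, hg⟩,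
    fun ⟨g, _, x, hx, h⟩ => h ▸ hx ▸ ord_conj (ord2_iff.2 ⟨V_sq hu.1, u1⟩) g⟩

end Am

/-- involutions far from `H` -/
def Far (H : Subgroup G) : Set G := {z | orderOf z = 2 ∧ H ⊓ C1[z] = ⊥}

theorem far_dvd (H : Subgroup G) : #H ∣ (Far H).ncard :=
  Core.card_dvd_of_free_conj H _ (fun a ha s hs => ⟨ord_conj hs.1 a, by
    rw [← cj_C1, ← cj_of_mem ha, ← cj_inf, hs.2, cj_bot]⟩) fun a ha s hs h => hs.2.le ⟨ha, C1_of_conj h⟩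

namespace Am
variable (e : Am H1 H2 R 4)
include e

theorem card_H1 : #H1 = 960 := by have := e.f1.card_H e.s1; rw [e.card_R] at this; omega
theorem card_B : #(H1 ⊓ H2) = 192 := by have := e.f1.card_B e.s1; rw [e.card_R, ← e.inf_B] at this; omega
theorem card_diff : ((VV H2 : Set G) \ VV H1).ncard = 12 := by
  have := ncard_diff (inf_le_right : VV H1 ⊓ VV H2 ≤ VV H2)
  rw [e.inf_eq, e.f1.cU R e.s1, ← e.inf_eq, e.f2.cV, coe_inf, Set.diff_inter_self_eq_diff] at this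
  omega

theorem card_L (hw : w ∈ H2) (nw : cj w R ≠ R) : #(H1 ⊓ H2 ⊓ cj w H1) = 48 := by
  have e' := (e.cj2 hw).symm
  have pr : IsProd R (H1 ⊓ H2 ⊓ cj w H1) (H1 ⊓ H2) := ⟨le_inf e.s1.le e.s2.le, inf_le_left, fun t ht => by
    obtain ⟨r, hr, h⟩ := e.f2.trans_R e.s2 e'.s1 (e'.s1.cj_mem ht.2) nw.symm fun h =>
      nw (cj_eq_cj.1 (h.symm.trans (cj_of_mem_N (e.inf_B.le ht).2).symm))
    have m := mul_mem (inv_mem (le_inf e.s1.le e.s2.le hr)) ht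
    exact ⟨r, hr, r⁻¹ * t, ⟨m, e'.mem_H2 m.2 (by rw [mem_N_iff_cj, cj_mul, ← h, cj_inv_cj])⟩, by group⟩⟩
  have := pr.card
  rw [show R ⊓ (H1 ⊓ H2 ⊓ cj w H1) = VV H2 from le_antisymm (fun x hx => e.d2.le (e.f2.mem_D_of_N e'.s1 e.s2 nw hx.1
    (e'.inf_B.le ⟨hx.2.1.2, hx.2.2⟩).2)) (le_inf e.V2 (le_inf (e.V2.trans (le_inf e.s1.le e.s2.le))
      (e'.V1.trans e'.s2.le))), e.card_B, e.card_R, e.f2.cV] at this
  omega

theorem card_inv (hS : Syl 2 R ⊤) : {z : G | orderOf z = 2}.ncard = 315 + (Far H1).ncard := by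
  obtain ⟨w, hw, nw⟩ := e.f2.other e.s2
  have e' := e.cj2 hw
  have ne : ∀ {A : Subgroup G} {S : Set G} {v : G}, v ∈ S \ A → v ≠ 1 := fun hv h => hv.2 (h ▸ one_mem _)
  have c1 := ncard_diff (bot_le : ⊥ ≤ VV H1)
  have c2 := ncard_conj (P := H1) (L := H1 ⊓ H2) (Z := (VV H2 : Set G) \ VV H1) inf_le_left
    (fun l hl z hz => ⟨conj_mem (V_norm _ hl.2) hz.1, fun h => hz.2 ((mem_N.1 (V_norm _ hl.1) z).2 h)⟩)
    fun h hh z hz h' => ⟨hh, e.symm.pt_uniq hS hz.1 (ne hz) h'.1⟩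
  have c3 := ncard_conj (P := H1) (L := H1 ⊓ H2 ⊓ cj w H1) (Z := (VV (cj w H1) : Set G) \ VV H2)
    (inf_le_left.trans inf_le_left)
    (fun l hl z hz => ⟨conj_mem (V_norm _ hl.2) hz.1, fun h => hz.2 ((mem_N.1 (V_norm _ hl.1.2) z).2 h)⟩)
    fun h hh z hz h' => by
      have m := e'.pt_uniq (hS.cj_top w) hz.1 (ne hz) h'.1
      refine ⟨⟨hh, ?_⟩, m⟩
      rcases no4 e e' (e.cj1 hh) (e'.cj1 m) with h | h
      · exact absurd (cj_of_mem_N (e.inf_B.le ⟨e.f1.N_le (mem_N_iff_cj.2 h.symm), hw⟩).2) nw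
      · exact e.f2.N_le (mem_N_iff_cj.2 h.symm)
  rw [e.card_B, e.card_H1, e.card_diff] at c2
  rw [e.card_L hw nw, e.card_H1, e'.symm.card_diff, ← cj_VV] at c3
  rw [card_bot', e.f1.cV] at c1
  generalize hT1 : (VV H1 : Set G) \ (⊥ : Subgroup G) = T1 at c1
  generalize hT2 : {y | ∃ h ∈ H1, ∃ z ∈ (VV H2 : Set G) \ VV H1, h * z * h⁻¹ = y} = T2 at c2
  generalize hT3 : {y | ∃ h ∈ H1, ∃ z ∈ (cj w (VV H1) : Set G) \ VV H2, h * z * h⁻¹ = y} = T3 at c3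
  have m1 : ∀ z ∈ T1, z ∈ VV H1 ∧ z ≠ 1 := fun z hz => by rw [← hT1] at hz; exact hz
  have m2 : ∀ z ∈ T2, z ∈ H1 ∧ z ∉ VV H1 ∧ orderOf z = 2 := by
    rw [← hT2]
    rintro _ ⟨h, hh, z, hz, rfl⟩
    exact ⟨conj_mem (normG _ hh) (e.s1.le (e.V2 hz.1)), fun h => hz.2 ((mem_N.1 (V_norm _ hh) z).2 h),
      ord_conj (ord2_iff.2 ⟨V_sq hz.1, ne hz⟩) h⟩
  have m3 : ∀ z ∈ T3, z ∉ H1 ∧ orderOf z = 2 ∧ H1 ⊓ C1[z] ≠ ⊥ := by
    rw [← hT3]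
    rintro _ ⟨h, hh, z, hz, rfl⟩
    obtain ⟨u, hu, u1⟩ := exists_U e'.f2.ne e'.s2
    have zV : z ∈ VV (cj w H1) := cj_VV w H1 ▸ hz.1
    refine ⟨fun h => e.not_H1 hS hw nw hz.1 hz.2 ((mem_N.1 (normG _ hh) z).2 h),
      ord_conj (ord2_iff.2 ⟨V_sq zV, ne hz⟩) h, ?_⟩
    rw [← cj_C1, ← cj_of_mem hh, ← cj_inf, Ne, cj_eq_bot]
    exact ne_bot_of_mem ⟨e.s1.le (e.V2 hu.1), C_le_C1 (e'.V1 zV) hu.2⟩ u1
  have nf : ∀ z ∈ H1, z ∉ Far H1 := fun z h1 h2 => ne_one_of_ord2 h2.1 (h2.2.le ⟨h1, mem_C1_self z⟩)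
  have VH := e.V1.trans e.s1.le
  rw [show {z : G | orderOf z = 2} = T1 ∪ T2 ∪ T3 ∪ Far H1 from ?_, Set.ncard_union_eq, Set.ncard_union_eq,
    Set.ncard_union_eq]
  · omega
  · exact Set.disjoint_left.2 fun z h1 h2 => (m2 z h2).2.1 (m1 z h1).1
  · exact Set.disjoint_left.2 fun z h1 h2 => (m3 z h2).1 (h1.elim (fun h => VH (m1 z h).1) fun h => (m2 z h).1)
  · refine Set.disjoint_left.2 ?_
    rintro z ((h | h) | h) h2
    exacts [nf z (VH (m1 z h).1) h2, nf z (m2 z h).1 h2, (m3 z h).2.2 h2.2]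
  · ext z
    refine ⟨fun hz => ?_, ?_⟩
    · by_cases h : H1 ⊓ C1[z] = ⊥
      · exact .inr ⟨hz, h⟩
      rcases e.near hS hw nw (sq_of_ord2 hz) (ne_one_of_ord2 hz) h with h | h
      · rcases e.inv_H1 h (sq_of_ord2 hz) with h | h
        · exact .inl (.inl (.inl (hT1 ▸ ⟨h, ne_one_of_ord2 hz⟩)))
        · exact .inl (.inl (.inr (hT2 ▸ h)))
      · exact .inl (.inr (hT3 ▸ h))
    · rintro (((h | h) | h) | h)
      exacts [ord2_iff.2 ⟨V_sq (m1 z h).1, (m1 z h).2⟩, (m2 z h).2.2, (m3 z h).2.1, h.1]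

end Am

end Cfsg.Agent.CIT
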