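import Cfsg.Agent.Stn.W24
import Cfsg.Agent.Inv.Count
/-! CIT groups: a simple group of order 20160 acting on a projective plane of order 4 is `PSL(3,4)`. -/
set_option autoImplicit false
namespace Cfsg.Agent.CIT
open Finset Equiv Cfsg.Agent.Gol Cfsg.Agent.Stn
open scoped Pointwise symmDiff

theorem exists_line {α : Type*} [Fintype α] [DecidableEq α] (hα : Fintype.card α = 21) {B : Set (Finset α)}
    (hB : Cfsg.IsSteinerSystem 2 5 B) {w : Finset α} {p : α} (hp : p ∉ w) (hw : w.card ≤ 4) :
    ∃ b ∈ B, p ∈ b ∧ Disjoint w b := by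
  by_contra! h
  have l1 := lam_small hB (by norm_num) (s := {p}) (by simp)
  rw [hα, card_singleton, show lamF 2 5 21 1 = 5 by decide] at l1
  have : lam B {p} ≤ ∑ q ∈ w, lam B {p, q} := (card_le_card fun b hb => by
    obtain ⟨h1, h2⟩ := mem_filter.1 hb
    obtain ⟨q, h3, h4⟩ := not_disjoint_iff.1 (h b (mem_bl.1 h1) (singleton_subset_iff.1 h2))
    exact mem_biUnion.2 ⟨q, h3, mem_filter.2 ⟨h1, insert_subset (singleton_subset_iff.1 h2)
      (singleton_subset_iff.2 h4)⟩⟩).trans card_biUnion_le
  rw [sum_congr rfl (g := fun _ => 1) fun q hq => by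
    have := lam_small hB (by norm_num) (s := {p, q}) card_le_two
    rw [hα, card_pair (ne_of_mem_of_not_mem hq hp).symm, show lamF 2 5 21 2 = 1 by decide] at this
    exact_mod_cast this, sum_const, smul_eq_mul] at this
  omega

theorem model21 {α : Type*} [Fintype α] [DecidableEq α] (hα : Fintype.card α = 21) {B : Set (Finset α)}
    (hB : Cfsg.IsSteinerSystem 2 5 B) : ∃ j : α ↪ GolayPt, Model j (toF 8388611)ᶜ B (CD (toF 8388611)) := by
  have hc : (toF 8388611).card = 3 := by rw [card_toF]; decide +kernel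
  refine exists_model _ (by omega) (by omega) (by omega) (by omega) hB (fun b hb c hc' => ?_) fun w i hi hw => ?_
  · by_cases h : b = c
    · rw [h, inter_self, hB.1 c hc', hc]
    · have := inter_lt hB hb hc' h
      have := inter_ne hB (by norm_num) hb hc' (j := 0) (by rw [hα]; decide)
      omega
  · by_cases e : i % 2 = 0
    · obtain ⟨p, hp⟩ := card_pos.1 (show 0 < w.card by omega)
      obtain ⟨b, hb, h1, h2⟩ := exists_line hα hB (notMem_erase p w) (by rw [card_erase_of_mem hp]; omega)
      refine ⟨b, hb, ?_⟩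
      rw [← insert_erase hp, insert_inter_of_mem h1, disjoint_iff_inter_eq_empty.1 h2]
      simp only [insert_empty_eq, card_singleton]; omega
    · obtain ⟨p, -, hp⟩ := exists_mem_notMem_of_card_lt_card (s := w) (t := univ) (by rw [card_univ]; omega)
      obtain ⟨b, hb, -, h2⟩ := exists_line hα hB hp (by omega)
      exact ⟨b, hb, by rw [disjoint_iff_inter_eq_empty.1 h2, card_empty]; omega⟩

def L21 : List ℕ := [9347075, 14716939, 12656663, 8536111, 13893731, 9465987, 11731203, 8524371, 10765331, 9963547]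
def M21 : List ℕ := [3, 7, 1, 12, 21, 41, 109, 132, 260, 636, 1041, 2077]

theorem L21_chk : ∀ n ∈ L21, bif' (isCW n) (Nat.beq (pc n) 8) false = true ∧ 8388611 &&& n = 8388611 := by
  decide +kernel

theorem L21_bas : M21.map (lin (13938692 :: 1302533 :: L21)) = basL := by decide +kernel

theorem L21_span : nall (fun k => bif' (Nat.beq (Nat.land 8388611 (cw k)) 0)
    (Nat.beq (cw k) (lin L21 (lin M21 k / 4))) true) 4096 = true := by decide +kernel

theorem mem_M24_of_simple {G : Type*} [Group G] [Finite G] [IsSimpleGroup G] (hG : ¬ Nat.card G ∣ 24)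
    (σ : G →* Perm GolayPt) (h1 : ∀ g, ∀ p ∈ toF 8388611, σ g p = p) (h2 : ∀ g, ∀ n ∈ L21, CW (σ g • toF n)) (g : G) :
    σ g ∈ M24 := by
  have key : ∀ (h : Finset GolayPt) a b c, CW ((σ b • h) ∆ (σ c • h)) → CW ((σ (a * b) • h) ∆ (σ (a * c) • h)) :=
    fun h a b c w => by
      have d : Disjoint (toF 8388611) ((σ b • h) ∆ (σ c • h)) := disjoint_left.2 fun p hp e => by
        have k : ∀ x, p ∈ σ x • h ↔ p ∈ h := fun x => by
          nth_rw 1 [← h1 x p hp]; exact smul_mem_smul_finset_iff (σ x)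
        rw [mem_symmDiff, k, k] at e
        tauto
      rw [map_mul, map_mul, mul_smul, mul_smul, ← smul_symmDiff']
      obtain ⟨k, hk, e⟩ := w.exists_cw
      rw [← e] at d ⊢
      have := nall_iff.1 L21_span k hk
      rw [show Nat.land 8388611 (cw k) = 0 from (toF_disjoint (by norm_num)).1 d] at this
      rw [Nat.eq_of_beq_eq_true this]
      exact cw_lin (h2 a) _
  have main : ∀ h, CW h → CW (σ g • h) := fun h w => by
    have sd : ∀ x, CW (x ∆ h) → CW x := fun x k => by simpa using k.symmDiff w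
    let K : Subgroup G :=
      { carrier := {g | CW (σ g • h)}
        one_mem' := by simpa using w
        mul_mem' := fun {a b} ha hb => by
          simpa using (key h a b 1 (by simpa using CW.symmDiff hb w)).symmDiff (t := σ (a * 1) • h) (by simpa using ha)
        inv_mem' := fun {a} ha => sd _ (by simpa using key h a⁻¹ 1 a (by simpa using w.symmDiff ha)) }
    let f : G → ℕ → Fin 2 := fun x n => ⟨(σ x • h ∩ toF n).card % 2, Nat.mod_lt _ two_pos⟩
    have z : ∀ x, ∀ n ∈ L21, (σ x • h ∩ toF n).card % 2 = 0 := fun x n hn => by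
      have := w.even_inter (h2 x⁻¹ n hn)
      rwa [← card_smul_finset (σ x), smul_finset_inter, map_inv, smul_inv_smul] at this
    have i4 : K.index ≤ 4 := (Nat.card_le_card_of_injective (β := Fin 2 × Fin 2)
      (fun q : G ⧸ K => (f q.out 13938692, f q.out 1302533)) fun q r e => by
        rw [← q.out_eq, ← r.out_eq]
        obtain ⟨e1, e2⟩ := Prod.ext_iff.1 e
        simp only [f, Fin.mk.injEq] at e1 e2
        refine QuotientGroup.eq.2 (sd _ ?_)
        have := key h q.out⁻¹ r.out q.out (even_of_lin (List.forall_mem_cons.2 ⟨by rw [par_sd]; omega,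
          List.forall_mem_cons.2 ⟨by rw [par_sd]; omega, fun n hn => by
            have := z q.out n hn
            have := z r.out n hn
            rw [par_sd]; omega⟩⟩) L21_bas)
        simpa using this).trans (by simp)
    by_contra n
    exact hG ((Inv.card_dvd_factorial_index K fun e => n (e.ge (Subgroup.mem_top g))).trans
      (Nat.factorial_dvd_factorial i4))
  exact mem_M24_of_bas fun b hb => main _ (bas_cw b hb)

theorem psl3_of_plane {G : Type*} [Group G] [Finite G] [IsSimpleGroup G] (hG : Nat.card G = 20160)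
    {α : Type*} [Fintype α] [DecidableEq α] [MulAction G α] (hα : Fintype.card α = 21)
    {B : Set (Finset α)} (hB : Cfsg.IsSteinerSystem 2 5 B) (hinv : ∀ g : G, ∀ b ∈ B, g • b ∈ B)
    (hnt : ∃ (g : G) (a : α), g • a ≠ a) :
    ∃ (F : Type) (_ : Field F) (_ : Fintype F), Fintype.card F = 4 ∧
      Nonempty (G ≃* Matrix.ProjectiveSpecialLinearGroup (Fin 3) F) := by
  obtain ⟨j, m⟩ := model21 hα hB
  let σ : G →* Perm GolayPt := (Perm.extendDomainHom (eqvX j m.rng)).comp (MulAction.toPermHom G α)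
  have s1 : ∀ g a, σ g (j a) = j (g • a) := fun g a => Perm.extendDomain_apply_image _ (eqvX j m.rng) a
  have s2 : ∀ g, ∀ p ∉ (toF 8388611)ᶜ, σ g p = p := fun g p hp => Perm.extendDomain_apply_not_subtype _ _ hp
  have s3 : ∀ g, ∀ p ∈ toF 8388611, σ g p = p := fun g p hp => s2 g p (by simpa using hp)
  have s4 := mem_M24_of_simple (by rw [hG]; norm_num) σ s3 fun g n hn => oct_of_CD (s2 g) (fun c hc hX => by
      obtain ⟨b, rfl⟩ := exists_pre m.rng hX
      have : σ g • b.map j = (g • b).map j := by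
        ext p
        simp only [mem_map, mem_smul_finset]
        exact ⟨by rintro ⟨_, ⟨a, ha, rfl⟩, rfl⟩; exact ⟨_, ⟨a, ha, rfl⟩, (s1 g a).symm⟩,
          by rintro ⟨_, ⟨a, ha, rfl⟩, rfl⟩; exact ⟨_, ⟨a, ha, rfl⟩, s1 g a⟩⟩
      exact this ▸ (m.blk _).1 (hinv g b ((m.blk b).2 hc)))
    (toF_mem_octads (L21_chk n hn).1) ((toF_subset (by norm_num)).2 (L21_chk n hn).2)
  let φ : G →* St 8388611 [] := (σ.codRestrict _ s4).codRestrict _ fun g => mem_St.2 ⟨s3 g, by simp⟩
  obtain ⟨e⟩ := m21_iso4
  refine ⟨F4, inferInstance, inferInstance, card_F4, ⟨(MulEquiv.ofBijective φ ((Nat.bijective_iff_injective_and_card _).2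
    ⟨φ.ker_eq_bot_iff.1 (φ.normal_ker.eq_bot_or_eq_top.resolve_right fun h => ?_), by rw [hG, card_m21]⟩)).trans e⟩⟩
  obtain ⟨g, a, n⟩ := hnt
  have : σ g = 1 := congrArg (fun x : St 8388611 [] => (x.1.1 : Perm GolayPt)) (h.ge (Subgroup.mem_top g))
  exact n (j.injective (by rw [← s1, this]; rfl))

end Cfsg.Agent.CIT
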