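import Cfsg.Agent.CIT.E2
import Cfsg.Agent.CIT.Ar
import Cfsg.Agent.CIT.X3
import Cfsg.Agent.Class.Grp
import Cfsg.Agent.SE.Fin

/-! # CIT groups: the case `q = 4`, the order of the group and the projective plane -/

set_option autoImplicit false
set_option linter.unusedVariables false
set_option linter.unusedSectionVars false

namespace Cfsg.Agent.CIT
open Cfsg Cfsg.Agent.BG Cfsg.Agent.Inv Cfsg.Agent.SE Subgroup
open scoped commutatorElement Pointwise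

variable {G : Type*} [Group G] [Finite G]
variable {A B D E H H1 H2 K L L' M P P' R R' R'' R1 R2 R3 R4 S S1 S2 T U V W X Y : Subgroup G}
  {a a' b c g h k r s t u u' v w w1 w2 x y z : G} {q n m : ℕ}

namespace IsCIT
variable (hc : IsCIT G)
include hc

theorem odd_C1 (hx : PiE {2}ᶜ x) (x1 : x ≠ 1) : PiG {2}ᶜ C1[x] := pig_of_elts fun y hy =>
  (hc.elt y).elim (fun h => hc.eq_one h hx x1 (mem_C1.1 hy) ▸ pie_one _) id

theorem surj_comm (tt : t * t = 1) (t1 : t ≠ 1) (hA : PiG {2}ᶜ A) (hn : t ∈ N[A]) (ha : a ∈ A) :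
    ∃ c ∈ A, c * t * c⁻¹ * t⁻¹ = a :=
  idx_surj (M := ⊥) (fun c => c * t * c⁻¹ * t⁻¹)
    (fun c h => by simpa [mul_assoc] using mul_mem h (conj_mem hn (inv_mem h)))
    (fun x hx y hy e => hc t _ (pie_sq tt) t1 (hA.elt (mul_mem (inv_mem hx) hy)) (mem_C1.1 (comm_inj e.symm)).symm)
    (by rw [relIndex_bot_left]) ha

theorem real (tt : t * t = 1) (t1 : t ≠ 1) (hx : PiE {2}ᶜ x) (x1 : x ≠ 1) (hi : t * x * t⁻¹ = x⁻¹) :
    t ∈ N[C1[x]] ∧ (∀ y ∈ C1[x], t * y * t⁻¹ = y⁻¹) ∧ Abel C1[x] := by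
  have n : t ∈ N[C1[x]] := by rw [mem_N_iff_cj, cj_C1, hi, C1_inv]
  have i : ∀ y ∈ C1[x], t * y * t⁻¹ = y⁻¹ := fun y hy => by
    obtain ⟨c, -, rfl⟩ := hc.surj_comm tt t1 (hc.odd_C1 hx x1) n hy
    calc _ = t * c * (t * t) * t⁻¹ * c⁻¹ * (t * t)⁻¹ := by group
      _ = _ := by rw [tt]; group
  refine ⟨n, i, le_C_iff.2 fun a ha b hb => inv_injective ?_⟩
  rw [← i _ (mul_mem ha hb), mul_inv_rev, ← i a ha, ← i b hb]; group

theorem real_C1 (tt : t * t = 1) (t1 : t ≠ 1) (hx : PiE {2}ᶜ x) (x1 : x ≠ 1) (hi : t * x * t⁻¹ = x⁻¹)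
    (hy : y ∈ C1[x]) (y1 : y ≠ 1) : C1[y] = C1[x] := by
  obtain ⟨-, h1, h2⟩ := hc.real tt t1 hx x1 hi
  exact le_antisymm ((hc.real tt t1 ((hc.odd_C1 hx x1).elt hy) y1 (h1 y hy)).2.2.trans (C_le_C1 (C1_symm hy)))
    (h2.trans (C_le_C1 hy))

theorem real_card [IsSimpleGroup G] (tt : t * t = 1) (t1 : t ≠ 1) (hx : PiE {2}ᶜ x) (x1 : x ≠ 1)
    (hi : t * x * t⁻¹ = x⁻¹) : ∃ (T : Subgroup G) (k : ℕ), PiG {2} T ∧ t ∈ T ∧ T ≤ N[C1[x]] ∧ 0 < k ∧
      Nat.card G = #C1[x] * #T * (1 + k * #C1[x]) := by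
  obtain ⟨n, i, ab⟩ := hc.real tt t1 hx x1 hi
  have o := hc.odd_C1 hx x1
  have pT : PiG {2} (N[C1[x]] ⊓ C1[t]) := (hc.pigC1 (pie_sq tt) t1).of_le inf_le_right
  have pr : IsProd C1[x] (N[C1[x]] ⊓ C1[t]) N[C1[x]] := ⟨normG _, inf_le_left, fun g hg => by
    obtain ⟨c, h1, h2⟩ := hc.surj_comm tt t1 o n (a := g * t * g⁻¹ * t⁻¹) (C1_of_conj (by
      have hi' : t⁻¹ * x * t = x⁻¹ := by rw [← hi, inv_eq_of_mul_eq_one_left tt]
      calc _ = g * (t * (g⁻¹ * (t⁻¹ * x * t) * g) * t⁻¹) * g⁻¹ := by group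
        _ = g * (t * (g⁻¹ * x⁻¹ * g) * t⁻¹) * g⁻¹ := by rw [hi']
        _ = x := by rw [i _ (conj_mem' hg (inv_mem (mem_C1_self x)))]; group))
    exact ⟨c, h1, c⁻¹ * g, mem_inf.2 ⟨mul_mem (inv_mem (normG _ h1)) hg, comm_inj h2.symm⟩, by group⟩⟩
  have c1 := pr.card
  rw [o.inf_bot' pT, card_bot', mul_one] at c1
  obtain ⟨k, hk⟩ := Class.card_dvd_ncard_of_free C1[x] {c : G ⧸ N[C1[x]] | c ≠ (1 : G)}
    (fun g hg c => QuotientGroup.induction_on c fun a ha => mk_ne.2 fun h =>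
      mk_ne.1 ha (by simpa using mul_mem (inv_mem (normG _ hg)) h))
    fun y hy c => QuotientGroup.induction_on c fun g hg e => by
      by_contra y1
      have m : g⁻¹ * y * g⁻¹⁻¹ ∈ C1[x] := (pig_zpowers.2 (pie_conj.2 (o.elt hy))).le_of_idx le_rfl
        (zpowers_le.2 (by simpa using smul_mk_eq_iff.1 e))
        (by rw [pr.relIndex]; exact PiN.compl_compl (pT.relIndex _)) (mem_zpowers _)
      refine mk_ne.1 hg (inv_mem_iff.1 (mem_N_iff_cj.2 ?_))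
      rw [← hc.real_C1 tt t1 hx x1 hi hy y1, cj_C1, hc.real_C1 tt t1 hx x1 hi m (conj_ne y1 _),
        hc.real_C1 tt t1 hx x1 hi hy y1]
  have c2 := Set.ncard_add_ncard_compl {c : G ⧸ N[C1[x]] | c ≠ (1 : G)}
  rw [show {c : G ⧸ N[C1[x]] | c ≠ (1 : G)}ᶜ = {((1 : G) : G ⧸ N[C1[x]])} by ext; simp, Set.ncard_singleton, hk] at c2
  refine ⟨_, k, pT, ⟨n, mem_C1_self t⟩, inf_le_left, Nat.pos_of_ne_zero ?_, ?_⟩
  · rintro rfl
    have : N[C1[x]] = ⊤ := index_eq_one.1 c2.symm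
    rcases (normal_iff.2 this.ge).eq_bot_or_eq_top with h | h
    · exact x1 (h.le (mem_C1_self x))
    · exact t1 ((pie_sq tt).eq_one (o.elt (h.ge (mem_top t))))
  · rw [← c1, ← card_mul_index N[C1[x]], index, ← c2]; ring

end IsCIT

theorem exists_big {I : Set G} (hI : ∀ t ∈ I, orderOf t = 2) {Q : G → Prop} (Q1 : ¬ Q 1) {f b : ℕ} (b0 : 0 < b)
    (h1 : ∀ s ∈ I, f ≤ {t | t ∈ I ∧ Q (s * t)}.ncard) (h2 : b * Nat.card G ≤ f * I.ncard) :
    ∃ s ∈ I, ∃ t ∈ I, Q (s * t) ∧ b < #C1[s * t] := by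
  classical
  have := Fintype.ofFinite G
  by_contra h
  push Not at h
  let O : Finset (G × G) := Finset.univ.filter fun p => p.1 ∈ I ∧ p.2 ∈ I ∧ Q (p.1 * p.2)
  have c1 := Finset.mul_card_image_le_card_of_maps_to (f := Prod.fst) (s := O) (t := I.toFinset)
    (fun p hp => by simpa using (Finset.mem_filter.1 hp).2.1) f fun s hs => by
      rw [Set.mem_toFinset] at hs
      refine (h1 s hs).trans ?_
      rw [← Set.ncard_coe_finset]
      exact Set.ncard_le_ncard_of_injOn (fun t => (s, t)) (fun t ht => by simpa [O, hs] using ht)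
        fun a _ b _ e => congrArg Prod.snd e
  have c2 := Finset.card_le_mul_card_image_of_maps_to (f := fun p => p.1 * p.2) (s := O) (t := Finset.univ.erase 1)
    (fun p hp => by
      simp only [Finset.mem_erase, Finset.mem_univ, and_true]
      exact fun e => Q1 (e ▸ (Finset.mem_filter.1 hp).2.2.2)) b fun x _ => by
      rcases (O.filter fun p => p.1 * p.2 = x).eq_empty_or_nonempty with e | ⟨p, hp⟩
      · rw [e]; exact Nat.zero_le _
      simp only [O, Finset.mem_filter, Finset.mem_univ, true_and] at hp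
      refine le_trans ?_ ((s0238 x).1.trans (hp.2 ▸ h _ hp.1.1 _ hp.1.2.1 hp.1.2.2))
      rw [card_subtype_eq_filter]
      exact Finset.card_le_card fun p hp => by
        simp only [O, Finset.mem_filter, Finset.mem_univ, true_and] at hp ⊢
        exact ⟨hI _ hp.1.1, hI _ hp.1.2.1, hp.2⟩
  rw [Finset.card_erase_of_mem (Finset.mem_univ _), Finset.card_univ, ← Nat.card_eq_fintype_card] at c2
  rw [← Set.ncard_eq_toFinset_card'] at c1
  have := Nat.mul_lt_mul_of_pos_left (Nat.sub_one_lt (Nat.card_pos (α := G)).ne') b0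
  omega

namespace Am
variable (e : Am H1 H2 R 4) (hS : Syl 2 R ⊤)
include e hS

theorem far_odd (hu : u ∈ VV H1) (u1 : u ≠ 1) (hz : z ∈ Far H1) : PiE {2}ᶜ (u * z) ∧ u * z ≠ 1 := by
  have key : ¬ PiE {2} (u * z) := fun h => by
    obtain ⟨Y, y1, y2, y3⟩ := two_inv (V_sq hu) (sq_of_ord2 hz.1) h
    obtain ⟨c, hc, c1⟩ := exists_mem_ne_one (y1.nil.Z_ne_bot (ne_bot_of_mem y2 u1))
    obtain ⟨k, hk, e'⟩ := e.C1_eq hS hu u1
    exact c1 (hz.2.le ⟨(e.s1.cj_mem hk).le (e'.le (C_le_C1 y2 hc.2)), C_le_C1 y3 hc.2⟩)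
  exact ⟨(e.f1.cit.elt _).resolve_left key, fun h => key (h ▸ pie_one _)⟩

theorem far_empty [IsSimpleGroup G] : (Far H1).ncard = 0 := by
  obtain ⟨m, hm⟩ := far_dvd H1
  have c1 := e.card_G hS
  rw [e.card_H1] at hm
  have c2 := e.card_inv hS
  rw [e.card_R] at c1
  rw [hm] at c2 ⊢
  by_contra m0
  have hc := e.f1.cit
  obtain ⟨u, hu, u1⟩ := exists_U e.f1.ne e.s1
  obtain ⟨s, hs, t, ht, ⟨o, o1⟩, lt⟩ := exists_big (I := {z : G | orderOf z = 2}) (fun _ h => h)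
    (Q := fun x => PiE {2}ᶜ x ∧ x ≠ 1) (fun h => h.2 rfl) (f := 960 * m) (b := 15 * m) (by omega) (fun s hs => by
      obtain ⟨g, rfl⟩ := e.exists_conj hS hu u1 hs
      rw [← hm]
      refine Set.ncard_le_ncard_of_injOn (fun z => g * z * g⁻¹) (fun z hz => ⟨ord_conj hz.1 g, ?_⟩)
        fun a _ b _ h => by simpa using h
      rw [show g * u * g⁻¹ * (g * z * g⁻¹) = g * (u * z) * g⁻¹ by group]
      exact ⟨pie_conj.2 (e.far_odd hS hu.1 u1 hz).1, conj_ne (e.far_odd hS hu.1 u1 hz).2 g⟩)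
    (by rw [← c1]; exact le_of_eq (by ring))
  have hi := inverts_left (sq_of_ord2 hs) (sq_of_ord2 ht)
  obtain ⟨T, k, pT, tT, nT, k0, c3⟩ := hc.real_card (sq_of_ord2 hs) (ne_one_of_ord2 hs) o o1 hi
  have oC := hc.odd_C1 o o1
  have sr : Semireg C1[s * t] T := Semireg.symm fun y hy y1 => hc.inf_bot pT (oC.elt hy) y1
  obtain ⟨b, n⟩ := arith (by omega) lt ((hS.card_dvd pT le_top).trans (by rw [e.card_R]))
    (by simpa [hs.out] using orderOf_dvd tT) (sr.card_dvd nT) k0 (by rw [← c3, ← c1, c2]; ring)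
  obtain ⟨X, hX, x3⟩ := exists_prime_sub (A := C1[s * t]) Nat.prime_three (by rw [b]; norm_num)
  have sX : Syl 3 X C1[s * t] := syl_mk Nat.prime_three hX (pig_of_card' Nat.prime_three x3) fun h => by
    have := card_mul_relIndex hX
    rw [x3, b] at this
    omega
  have := (sr.mono hX le_rfl).card_dvd
    (sX.norm_char (abel_norm (hc.real (sq_of_ord2 hs) (ne_one_of_ord2 hs) o o1 hi).2.2 hX) nT)
  rw [n, x3] at this
  omega

theorem bruhat (h0 : (Far H1).ncard = 0) (g : G) : ∃ a ∈ H1, ∃ b ∈ H2, (a * b)⁻¹ * g ∈ H1 := by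
  obtain ⟨w, hw, nw⟩ := e.f2.other e.s2
  obtain ⟨u, hu, u1⟩ := exists_U e.f1.ne e.s1
  have z2 := ord_conj (ord2_iff.2 ⟨V_sq hu.1, u1⟩) g
  have key : ∀ a b, g * u * g⁻¹ ∈ cj (a * b) (VV H1) → (a * b)⁻¹ * g ∈ H1 := fun a b h =>
    e.pt_uniq hS hu.1 u1 (by simpa [mul_assoc] using mem_cj.1 h)
  rcases e.near hS hw nw (sq_of_ord2 z2) (ne_one_of_ord2 z2) (fun h => by
    rw [Set.ncard_eq_zero] at h0
    exact h0.le ⟨z2, h⟩) with h | ⟨h, hh, v, hv, e'⟩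
  · rcases e.inv_H1 h (sq_of_ord2 z2) with h | ⟨h, hh, v, hv, e'⟩
    · exact ⟨1, one_mem _, 1, one_mem _, key _ _ (by simpa [cj_one] using h)⟩
    · obtain ⟨R', hR', h1⟩ := e.f2.exists_syl hv.1
      obtain ⟨k, hk, rfl⟩ := e.s2.conj p2 hR'
      exact ⟨h, hh, k, hk, key _ _ (by
        rw [← e', cj_mul, mem_cj_conj, cj_VV]; exact (e.cj2 hk).symm.mem2 hv.1 h1)⟩
  · exact ⟨h, hh, w, hw, key _ _ (by rw [← e', cj_mul, mem_cj_conj]; exact hv.1)⟩

theorem psl3 [IsSimpleGroup G] : ∃ (F : Type) (_ : Field F) (_ : Fintype F), Fintype.card F = 4 ∧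
    Nonempty (G ≃* Matrix.ProjectiveSpecialLinearGroup (Fin 3) F) := by
  classical
  have h0 := e.far_empty hS
  have c1 := e.card_G hS
  rw [e.card_inv hS, h0, e.card_R] at c1
  have := Fintype.ofFinite (G ⧸ H1)
  let b0 : Finset (G ⧸ H1) := Finset.univ.filter fun c => ∃ h ∈ H2, (h : G ⧸ H1) = c
  have mb : ∀ g k : G, (k : G ⧸ H1) ∈ g • b0 ↔ ∃ h ∈ H2, (g * h)⁻¹ * k ∈ H1 := fun g k => by
    rw [← Finset.inv_smul_mem_iff]
    simp only [b0, Finset.mem_filter, Finset.mem_univ, true_and]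
    refine exists_congr fun h => and_congr_right fun _ => ?_
    rw [mul_inv_rev, mul_assoc]
    exact QuotientGroup.eq
  have am : ∀ g k : G, (k : G ⧸ H1) ∈ g • b0 → ∃ R, Am (cj k H1) (cj g H2) R 4 := fun g k h => by
    obtain ⟨h, hh, h1⟩ := (mb g k).1 h
    have := e.cjj (g * h)
    rw [cj_mul g h H2, cj_of_mem hh, ← cj_of_mem h1, ← cj_mul, mul_inv_cancel_left] at this
    exact ⟨_, this⟩
  have st : ∀ h ∈ H2, h • b0 = b0 := fun h hh => Finset.eq_of_subset_of_card_le (fun c =>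
    QuotientGroup.induction_on c fun k hk => by
      obtain ⟨l, hl, h1⟩ := (mb h k).1 hk
      simpa using (mb 1 k).2 ⟨h * l, mul_mem hh hl, by rwa [one_mul]⟩) (by rw [Finset.card_smul_finset])
  refine psl3_of_plane c1.symm (α := G ⧸ H1) ?_ (B := {b | ∃ g : G, g • b0 = b}) ⟨?_, fun s hs => ?_⟩ ?_ ?_
  · have := card_mul_index H1
    rw [e.card_H1, ← c1, index, Nat.card_eq_fintype_card] at this
    omega
  · rintro _ ⟨g, rfl⟩
    have c2 := card_inf_mul_relIndex H1 H2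
    have sm : ∀ h : H2, h • ((1 : G) : G ⧸ H1) = (h : G) := fun h => congrArg QuotientGroup.mk (mul_one (h : G))
    rw [e.card_B, e.symm.card_H1, relIndex, show H1.subgroupOf H2 = MulAction.stabilizer H2 ((1 : G) : G ⧸ H1) by
      ext h; rw [MulAction.mem_stabilizer_iff, mem_subgroupOf, ← not_iff_not, ← mk_ne (H := H1), sm],
      MulAction.index_stabilizer] at c2
    rw [Finset.card_smul_finset, ← Set.ncard_coe_finset, show (b0 : Set (G ⧸ H1)) =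
      MulAction.orbit H2 ((1 : G) : G ⧸ H1) from ?_]
    · omega
    · ext c
      simp only [b0, Finset.coe_filter, Finset.mem_univ, true_and, Set.mem_setOf_eq, MulAction.mem_orbit_iff]
      exact ⟨fun ⟨h, hh, e⟩ => ⟨⟨h, hh⟩, (sm _).trans e⟩, fun ⟨h, e⟩ => ⟨h, h.2, (sm _).symm.trans e⟩⟩
  · obtain ⟨x, y, n, rfl⟩ := Finset.card_eq_two.1 hs
    induction x using QuotientGroup.induction_on with | _ x =>
    induction y using QuotientGroup.induction_on with | _ y =>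
    obtain ⟨a, ha, b, hb, h⟩ := e.bruhat hS h0 (x⁻¹ * y)
    have m1 := (mb (x * a) x).2 ⟨1, one_mem _, by simpa using ha⟩
    have m2 := (mb (x * a) y).2 ⟨b, hb, by simpa [mul_assoc] using h⟩
    refine ⟨(x * a) • b0, ⟨⟨_, rfl⟩, by simp [Finset.insert_subset_iff, m1, m2]⟩, ?_⟩
    rintro _ ⟨⟨g, rfl⟩, h⟩
    obtain ⟨R1, e1⟩ := am _ _ m1
    obtain ⟨R2, e2⟩ := am _ _ m2
    obtain ⟨R3, e3⟩ := am _ _ (h (Finset.mem_insert_self _ _))
    obtain ⟨R4, e4⟩ := am _ _ (h (Finset.mem_insert_of_mem (Finset.mem_singleton_self _)))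
    rcases no4 e1 e2 e3 e4 with h | h
    · exact absurd (QuotientGroup.eq.2 (e.f1.N_le (by rw [mem_N_iff_cj, cj_mul, ← h, cj_inv_cj]))) n
    · rw [← st _ (e.f2.N_le (show g⁻¹ * (x * a) ∈ N[H2] by rw [mem_N_iff_cj, cj_mul, h, cj_inv_cj])), smul_smul,
        mul_inv_cancel_left, st _ (e.f2.N_le (show g⁻¹ * (x * a) ∈ N[H2] by
          rw [mem_N_iff_cj, cj_mul, h, cj_inv_cj]))]
  · rintro g _ ⟨k, rfl⟩
    exact ⟨g * k, mul_smul _ _ _⟩
  · obtain ⟨w, hw, nw⟩ := e.f2.other e.s2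
    exact ⟨w, (1 : G), mk_ne.2 fun h => nw (cj_of_mem_N (e.inf_B.le ⟨by simpa using h, hw⟩).2)⟩

end Am

end Cfsg.Agent.CIT
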