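import Cfsg.Agent.CIT.A

/-! # CIT groups: failure of factorization -/

set_option autoImplicit false
set_option linter.unusedVariables false
set_option linter.unusedSectionVars false

namespace Cfsg.Agent.CIT
open Cfsg Cfsg.Agent.BG Cfsg.Agent.Inv Cfsg.Agent.SE Subgroup
open scoped commutatorElement

variable {G : Type*} [Group G] [Finite G]
variable {A B D E H K L M R R' R'' S T U V W X Y : Subgroup G} {a a' b c g h r s t u u' v w x y z : G} {q : ℕ}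

structure FF (H : Subgroup G) (q : ℕ) : Prop extends Par H where
  cV : #(VV H) = q * q
  cU : ∀ R, Syl 2 R H → #(VV H ⊓ C[R]) = q
  idx : ∀ R, Syl 2 R H → (DD H).relIndex R = q
  cent : ∀ R, Syl 2 R H → ∀ r ∈ R, r ∉ DD H → VV H ⊓ C1[r] ≤ C[R]
  comm : ∀ R, Syl 2 R H → ∀ v ∈ VV H, ∀ r ∈ R, v * r * v⁻¹ * r⁻¹ ∈ C[R]
  conj' : ∀ R R', Syl 2 R H → Syl 2 R' H → R ≠ R' → ∀ u ∈ VV H ⊓ C[R], u ≠ 1 → ∀ u' ∈ VV H ⊓ C[R'], u' ≠ 1 →
    ∃ h ∈ H, h * u * h⁻¹ = u'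

theorem card_U_cj (hg : g ∈ H) : #(VV H ⊓ C[cj g R]) = #(VV H ⊓ C[R]) := by
  rw [← card_cj g (VV H ⊓ C[R]), cj_inf, cj_of_mem_N (V_norm H hg), cj_C]

theorem mul_self_inj {m n : ℕ} (h : m * m = n * n) : m = n := Nat.mul_self_inj.1 h

theorem Par.ff_aux (P : Par H) (hq : #(VV H) = q * q) (hR : Syl 2 R H) (hA : A ≤ R) (ab : Abelem 2 A)
    (hi : q ≤ (DD H).relIndex A) (hR' : Syl 2 R' H) (n : R ≠ R') (hu : u ∈ VV H ⊓ C[R]) (u1 : u ≠ 1) :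
    #(VV H ⊓ C[R]) = q ∧ ∀ u' ∈ VV H ⊓ C[R'], u' ≠ 1 → ∃ h ∈ H, h * u * h⁻¹ = u' := by
  classical
  have q1 : 1 < q := by
    have := one_lt_card (V_ne P.ne)
    rw [hq] at this
    by_contra e
    interval_cases q <;> simp at this
  have nA : ¬ A ≤ DD H := fun e => by rw [relIndex_eq_one.2 e] at hi; omega
  obtain ⟨a0, h1, h3⟩ := SetLike.not_le_iff_exists.1 nA
  have sq : ∀ a ∈ A, a * a = 1 := fun a ha => by rw [← _root_.sq]; exact ab.pow a ha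
  have sqD : ∀ a ∈ A, a * a ∈ DD H := fun a ha => sq a ha ▸ one_mem _
  have o2 : ∀ a ∈ A, a ∉ DD H → orderOf a = 2 := fun a ha na =>
    ord2_iff.2 ⟨sq a ha, fun e => na (e ▸ one_mem _)⟩
  obtain ⟨h, hh, rfl⟩ := hR.conj p2 hR'
  set a' := h * a0 * h⁻¹
  have a'1 : a' ∈ cj h R := mem_cj_conj.2 (hA h1)
  have a'2 : a' ∉ DD H := P.conj_not hh h3
  have a'3 : orderOf a' = 2 := ord_conj (o2 a0 h1 h3) h
  have ex : ∀ a, ∃ w, a ∈ A → a ∉ DD H → w ∈ H ∧ w * w = 1 ∧ w * a * w⁻¹ = a' ∧ cj w R = cj h R := fun a => by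
    by_cases ha : a ∈ A ∧ a ∉ DD H
    swap
    · exact ⟨1, fun a1 a2 => absurd ⟨a1, a2⟩ ha⟩
    obtain ⟨o, o1⟩ := P.odd hR hR' n (hA ha.1) a'1 ha.2 a'2 (sqD a ha.1) (sq_of_ord2 a'3 ▸ one_mem _)
    obtain ⟨w, w1, w2, w3⟩ := exists_involution_conj_of_odd (o2 a ha.1 ha.2) a'3 (pie_odd.1 o)
      fun e => o1 (by rw [← e, sq a ha.1])
    have wH : w ∈ H := (closure_le H).2 (by
      rintro _ (rfl | rfl)
      exacts [hR.le (hA ha.1), hR'.le a'1]) w1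
    exact ⟨w, fun _ _ => ⟨wH, sq_of_ord2 w2, w3,
      P.eq_of_mem (hR.cj_mem wH) hR' (w3 ▸ mem_cj_conj.2 (hA ha.1)) a'1 a'2⟩⟩
  choose w hw using ex
  let f : G → G := fun a => if a ∈ DD H then 1 else w a * u * (w a)⁻¹
  have f1 : ∀ a ∈ A, f a ∈ VV H ⊓ C[cj h R] := fun a ha => by
    simp only [f]
    split_ifs with e
    · exact one_mem _
    · obtain ⟨w1, -, -, w4⟩ := hw a ha e
      exact ⟨conj_mem (V_norm H w1) hu.1, by rw [← w4, ← cj_C]; exact mem_cj_conj.2 hu.2⟩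
  have ne1 : ∀ g : G, g * u * g⁻¹ ≠ 1 := fun g e => u1 (by simpa using e)
  have f2 : ∀ a ∈ A, ∀ b ∈ A, f a = f b → a⁻¹ * b ∈ DD H := fun a ha b hb e => by
    simp only [f] at e
    split_ifs at e with e1 e2 e2
    · exact mul_mem (inv_mem e1) e2
    · exact absurd e.symm (ne1 _)
    · exact absurd e (ne1 _)
    obtain ⟨v1, v2, v3, v4⟩ := hw a ha e1
    obtain ⟨w1, w2, w3, w4⟩ := hw b hb e2
    have gR : (w b)⁻¹ * w a ∈ R := P.C1_le hR hu.2 ((V_pig H).elt hu.1) u1 (mem_inf.2 ⟨mul_mem (inv_mem w1) v1, mem_C1.2 (by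
      calc (w b)⁻¹ * w a * u = (w b)⁻¹ * (w a * u * (w a)⁻¹) * w a := by group
        _ = u * ((w b)⁻¹ * w a) := by rw [e]; group)⟩)
    have gN : (w b)⁻¹ * w a ∈ N[cj h R] := by
      rw [mem_N_iff_cj, cj_mul, ← v4, ← cj_mul (w a), v2, cj_one, inv_eq_of_mul_eq_one_left w2, w4, v4]
    have gD : (w b)⁻¹ * w a ∈ DD H := P.ti _ _ hR hR' n ⟨gR, hR'.le_of_norm (pig_zpowers.2 (hR.pi.elt gR))
      (zpowers_le.2 (hR.le gR)) (zpowers_le.2 gN) (mem_zpowers _)⟩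
    have := mul_mem (inv_mem gD) (conj_mem' (O_norm {2} H (hR.le (hA hb))) gD)
    convert this using 1
    have e3 : a = (w a)⁻¹ * (w b * b * (w b)⁻¹) * w a := by rw [w3, ← v3]; group
    calc a⁻¹ * b = ((w a)⁻¹ * (w b * b * (w b)⁻¹) * w a)⁻¹ * b := by rw [← e3]
      _ = _ := by group
  have i1 := idx_le f f1 f2
  have c1 := card_U_cj (R := R) hh
  have c2 := mul_self_inj (hq.symm.trans (P.card_W hR (hA h1) h3 (sqD _ h1)))
  have c3 : #(VV H ⊓ C[R]) ≤ #(VV H ⊓ C1[a0]) := card_le (inf_le_inf_left _ (C_le_C1 (hA h1)))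
  refine ⟨by omega, fun u' hu' u1' => ?_⟩
  obtain ⟨a, ha, e⟩ := idx_surj f f1 f2 (by omega) hu'
  simp only [f] at e
  split_ifs at e with e1
  · exact absurd e.symm u1'
  · exact ⟨_, (hw a ha e1).1, e⟩

theorem exists_U (h : DD H ≠ ⊥) (hR : Syl 2 R H) : ∃ u ∈ VV H ⊓ C[R], u ≠ 1 :=
  exists_mem_ne_one ((V_pig H).meet_C hR.pi (hR.le.trans (V_norm H)) (V_ne h))

theorem Par.ff (P : Par H) (hq : #(VV H) = q * q) (hR : Syl 2 R H) (hA : A ≤ R) (ab : Abelem 2 A)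
    (hi : q ≤ (DD H).relIndex A) : FF H q := by
  have all : ∀ R, Syl 2 R H → ∃ A ≤ R, Abelem 2 A ∧ q ≤ (DD H).relIndex A := fun R' hR' => by
    obtain ⟨h, hh, rfl⟩ := hR.conj p2 hR'
    refine ⟨cj h A, cj_mono h hA, ab.cj h, ?_⟩
    rwa [← cj_of_mem_N (O_norm {2} H hh), relIndex_cj]
  clear hR hA ab hi
  have cU : ∀ R, Syl 2 R H → #(VV H ⊓ C[R]) = q := fun R hR => by
    obtain ⟨A, hA, ab, hi⟩ := all R hR
    obtain ⟨u, hu, u1⟩ := exists_U P.ne hR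
    obtain ⟨h, hh, n⟩ := P.other hR
    exact (P.ff_aux hq hR hA ab hi (hR.cj_mem hh) n.symm hu u1).1
  have eW : ∀ R, Syl 2 R H → ∀ a ∈ R, a ∉ DD H → a * a ∈ DD H → VV H ⊓ C1[a] ≤ C[R] := fun R hR a h1 h3 h5 =>
    (eq_of_card_le (inf_le_inf_left _ (C_le_C1 h1)) (by
      rw [cU R hR, mul_self_inj (hq.symm.trans (P.card_W hR h1 h3 h5))])).ge.trans inf_le_right
  have cent : ∀ R, Syl 2 R H → ∀ r ∈ R, r ∉ DD H → VV H ⊓ C1[r] ≤ C[R] := fun R hR r h1 h3 => by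
    obtain ⟨a, ha, a1, a2⟩ := exists_sq (hR.pi.elt h1) h3
    exact (inf_le_inf_left _ (C1_le_of_mem_zpowers ha)).trans (eW R hR a (zpowers_le.2 h1 ha) a1 a2)
  have idx : ∀ R, Syl 2 R H → (DD H).relIndex R ≤ q := fun R hR => by
    have VR := (V_le H).trans hR.O_le
    obtain ⟨v, hv, nv, c⟩ := hR.pi.nil.exists_Z_mod (K := VV H ⊓ C[R]) (L := VV H) (inf_le_left.trans VR)
      (normI (hR.le.trans (V_norm H)) (normC (normG R))) (hR.le.trans (V_norm H)) VR (fun e => by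
        obtain ⟨a, h1, h3, -⟩ := P.exists_not hR
        exact h3 (P.CV.le (cent_symm (e.trans inf_le_right) h1)))
    rw [← cU R hR]
    refine idx_le (fun r => v * r * v⁻¹ * r⁻¹) (fun r hr => comm_le_iff.1 c v (mem_zpowers v) r hr)
      fun r hr s hs e => ?_
    by_contra n
    exact nv ⟨hv, cent R hR _ (mul_mem (inv_mem hr) hs) n ⟨hv, C1_symm (comm_inj' e)⟩⟩
  have le : ∀ R A, A ≤ R → (DD H).relIndex A ≤ (DD H).relIndex R := fun R A hA =>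
    relIndex_le_of_le_right hA (relIndex_pos _ _).ne'
  refine ⟨P, hq, cU, fun R hR => ?_, cent, fun R hR v hv r hr => ?_, fun R R' hR hR' n u hu u1 => ?_⟩
  · obtain ⟨A, hA, ab, hi⟩ := all R hR
    exact le_antisymm (idx R hR) (hi.trans (le R A hA))
  · obtain ⟨A, hA, ab, hi⟩ := all R hR
    have nA := (hA.trans hR.le).trans (O_norm {2} H)
    have e : DD H ⊔ A = R := eq_of_card_le (sup_le hR.O_le hA) (by
      rw [← card_mul_relIndex hR.O_le, ← card_mul_relIndex (le_sup_left : DD H ≤ DD H ⊔ A), relIndex_sup_l nA]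
      exact Nat.mul_le_mul_left _ ((idx R hR).trans hi))
    obtain ⟨a, ha, d, hd, rfl⟩ := (isProd_of_l nA e).symm.ex r hr
    have c := mem_C.1 (V_cent H (inv_mem hv)) d hd
    rw [show v * (a * d) * v⁻¹ * (a * d)⁻¹ = v * a * (d * v⁻¹) * d⁻¹ * a⁻¹ by group, c,
      show v * a * (v⁻¹ * d) * d⁻¹ * a⁻¹ = v * a * v⁻¹ * a⁻¹ by group]
    by_cases aD : a ∈ DD H
    · rw [← mem_C.1 (V_cent H hv) a aD]; simp
    · have s : a * a ∈ DD H := by rw [← sq, ab.pow a ha]; exact one_mem _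
      exact eW _ hR a (hA ha) aD s (P.comm_mem_W (hR.le (hA ha)) s hv)
  · obtain ⟨A, hA, ab, hi⟩ := all R hR
    exact (P.ff_aux hq hR hA ab hi hR' n hu u1).2

namespace FF
variable (F : FF H q)
include F

theorem one_lt : 1 < q := by
  have := one_lt_card (V_ne F.ne)
  rw [F.cV] at this
  by_contra e
  interval_cases q <;> simp at this

theorem cjj (g : G) : FF (cj g H) q := by
  have s : ∀ R, Syl 2 R (cj g H) → Syl 2 (cj g⁻¹ R) H := fun R h => by simpa [cj_inv_cj] using h.cj g⁻¹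
  refine ⟨F.toPar.cjj g, by rw [← cj_VV, card_cj, F.cV], fun R hR => ?_, fun R hR => ?_, fun R hR r h1 h2 => ?_,
    fun R hR v hv r hr => ?_, fun R R' hR hR' n u hu u1 u' hu' u1' => ?_⟩
  · rw [← F.cU _ (s R hR), ← card_cj g⁻¹, cj_inf, cj_VV, cj_inv_cj, cj_C]
  · rw [← F.idx _ (s R hR), ← relIndex_cj g⁻¹, cj_O, cj_inv_cj]
  · rw [← cj_le_cj (g := g⁻¹), cj_inf, cj_VV, cj_inv_cj, cj_C, cj_C1]
    exact F.cent _ (s R hR) _ (mem_cj_conj.2 h1) (by rwa [← cj_O, mem_cj, ← inv_inv g, inv_inv g⁻¹] at h2)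
  · rw [← mem_cj_conj (g := g⁻¹), cj_C]
    have := F.comm _ (s R hR) (g⁻¹ * v * g⁻¹⁻¹) (by rwa [← cj_VV, mem_cj, ← inv_inv g, inv_inv g⁻¹] at hv) _
      (mem_cj_conj.2 hr)
    convert this using 1; group
  · have m : ∀ R u, u ∈ VV (cj g H) ⊓ C[R] → g⁻¹ * u * g⁻¹⁻¹ ∈ VV H ⊓ C[cj g⁻¹ R] := fun R u hu => by
      rwa [← mem_cj_conj (g := g⁻¹), cj_inf, cj_VV, cj_inv_cj, cj_C] at hu
    obtain ⟨h, hh, e⟩ := F.conj' _ _ (s R hR) (s R' hR') (mt cj_eq_cj.1 n) _ (m R u hu) (conj_ne u1 _) _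
      (m R' u' hu') (conj_ne u1' _)
    refine ⟨g * h * g⁻¹, mem_cj_conj.2 hh, ?_⟩
    calc _ = g * (h * (g⁻¹ * u * g⁻¹⁻¹) * h⁻¹) * g⁻¹ := by group
      _ = u' := by rw [e]; group

theorem comm_U (hR : Syl 2 R H) (hv : v ∈ VV H) (hr : r ∈ R) : v * r * v⁻¹ * r⁻¹ ∈ VV H ⊓ C[R] :=
  ⟨by simpa [mul_assoc] using mul_mem hv (conj_mem (V_norm H (hR.le hr)) (inv_mem hv)), F.comm R hR v hv r hr⟩

theorem comm_U' (hR : Syl 2 R H) (hv : v ∈ VV H) (hr : r ∈ R) : r * v * r⁻¹ * v⁻¹ ∈ VV H ⊓ C[R] := by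
  have := inv_mem (F.comm_U hR hv hr)
  convert this using 1; group

theorem mem_D (hR : Syl 2 R H) (hv : v ∈ VV H) (nv : v ∉ C[R]) (hr : r ∈ R) (e : r ∈ C1[v]) : r ∈ DD H := by
  by_contra n; exact nv (F.cent R hR r hr n ⟨hv, C1_symm e⟩)

/-- `r ↦ [r, v]` maps `R` onto `U` -/
theorem surj_R (hR : Syl 2 R H) (hv : v ∈ VV H) (nv : v ∉ C[R]) (hu : u ∈ VV H ⊓ C[R]) :
    ∃ r ∈ R, r * v * r⁻¹ * v⁻¹ = u :=
  idx_surj (M := DD H) (fun r => r * v * r⁻¹ * v⁻¹) (fun r hr => F.comm_U' hR hv hr)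
    (fun r hr s hs e => F.mem_D hR hv nv (mul_mem (inv_mem hr) hs) (comm_inj e.symm))
    (by rw [F.cU R hR, F.idx R hR]) hu

/-- `v ↦ [v, r]` maps `V` onto `U` -/
theorem surj_V (hR : Syl 2 R H) (hr : r ∈ R) (nr : r ∉ DD H) (hu : u ∈ VV H ⊓ C[R]) :
    ∃ v ∈ VV H, v * r * v⁻¹ * r⁻¹ = u := by
  refine idx_surj (M := C[R]) (fun v => v * r * v⁻¹ * r⁻¹) (fun v hv => F.comm_U hR hv hr)
    (fun v hv w hw e => F.cent R hR r hr nr (mem_inf.2 ⟨mul_mem (inv_mem hv) hw, comm_inj e.symm⟩)) ?_ hu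
  have := card_inf_mul_relIndex C[R] (VV H)
  rw [inf_comm, F.cU R hR, F.cV] at this
  rw [F.cU R hR, Nat.eq_of_mul_eq_mul_left (by have := F.one_lt; omega) this]

theorem prod_U (hR : Syl 2 R H) (hR' : Syl 2 R' H) (n : R ≠ R') : IsProd (VV H ⊓ C[R]) (VV H ⊓ C[R']) (VV H) := by
  refine isProd_of_card inf_le_left inf_le_left ?_
  rw [(eq_bot_iff_forall (VV H ⊓ C[R] ⊓ (VV H ⊓ C[R']))).2 fun u hu => F.U_inf hR hR' n hu.1.2 hu.2.2 ((V_pig H).elt hu.1.1), card_bot',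
    F.cU R hR, F.cU R' hR', F.cV, mul_one]

theorem cj_eq (hR : Syl 2 R H) (hR' : Syl 2 R' H) (hu : u ∈ VV H ⊓ C[R]) (u1 : u ≠ 1) (hh : h ∈ H)
    (e : h * u * h⁻¹ ∈ C[R']) : cj h R = R' := by
  by_contra n
  exact u1 (by
    simpa using F.U_inf (hR.cj_mem hh) hR' n (by rw [← cj_C]; exact mem_cj_conj.2 hu.2) e
      (pie_conj.2 ((V_pig H).elt hu.1)))

/-- `R` is transitive on the other Sylow subgroups -/
theorem trans_R (hR : Syl 2 R H) (hR' : Syl 2 R' H) (hR'' : Syl 2 R'' H) (n : R ≠ R') (n' : R ≠ R'') :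
    ∃ r ∈ R, cj r R' = R'' := by
  obtain ⟨v, hv, v1⟩ := exists_U F.ne hR''
  obtain ⟨u, hu, u', hu', rfl⟩ := (F.prod_U hR hR' n).ex v hv.1
  have u1 : u' ≠ 1 := fun e => v1 (F.U_inf hR hR'' n' (by simpa [e] using hu.2) hv.2 ((V_pig H).elt hv.1))
  obtain ⟨r, hr, e⟩ := F.surj_R hR hu'.1 (fun e => u1 (F.U_inf hR hR' n e hu'.2 ((V_pig H).elt hu'.1))) hu
  exact ⟨r, hr, F.cj_eq hR' hR'' hu' u1 (hR.le hr) (by rw [← e] at hv; simpa using hv.2)⟩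

theorem exists_syl (hv : v ∈ VV H) : ∃ R, Syl 2 R H ∧ v ∈ C[R] := by
  obtain ⟨R, hR⟩ := syl_exists p2 H
  obtain ⟨h, hh, n⟩ := F.other hR
  have hR' := hR.cj_mem hh
  obtain ⟨u, hu, u', hu', rfl⟩ := (F.prod_U hR hR' n.symm).ex v hv
  by_cases u1 : u' = 1
  · exact ⟨R, hR, by simpa [u1] using hu.2⟩
  obtain ⟨r, hr, e⟩ := F.surj_R hR hu'.1 (fun e => u1 (F.U_inf hR hR' n.symm e hu'.2 ((V_pig H).elt hu'.1))) hu
  refine ⟨_, hR'.cj_mem (hR.le hr), ?_⟩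
  rw [← e, ← cj_C, inv_mul_cancel_right]
  exact mem_cj_conj.2 hu'.2

/-- `H` is transitive on the involutions of `V` -/
theorem conj (hu : u ∈ VV H) (u1 : u ≠ 1) (hu' : u' ∈ VV H) (u1' : u' ≠ 1) : ∃ h ∈ H, h * u * h⁻¹ = u' := by
  obtain ⟨R, hR, h1⟩ := F.exists_syl hu
  obtain ⟨R', hR', h2⟩ := F.exists_syl hu'
  by_cases n : R = R'
  swap
  · exact F.conj' R R' hR hR' n u ⟨hu, h1⟩ u1 u' ⟨hu', h2⟩ u1'
  subst n
  obtain ⟨h, hh, n⟩ := F.other hR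
  obtain ⟨v, hv, v1⟩ := exists_U F.ne (hR.cj_mem hh)
  obtain ⟨k, hk, rfl⟩ := F.conj' _ _ (hR.cj_mem hh) hR n v hv v1 u ⟨hu, h1⟩ u1
  obtain ⟨l, hl, rfl⟩ := F.conj' _ _ (hR.cj_mem hh) hR n v hv v1 u' ⟨hu', h2⟩ u1'
  exact ⟨l * k⁻¹, mul_mem hl (inv_mem hk), by group⟩

end FF

/-! ### the Thompson subgroup -/

structure MaxE (A R : Subgroup G) : Prop where
  le : A ≤ R
  ab : Abelem 2 A
  max : ∀ B ≤ R, Abelem 2 B → #B ≤ #A

def JJ (R : Subgroup G) : Subgroup G := sSup {A | MaxE A R}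

theorem exists_maxE (R : Subgroup G) : ∃ A, MaxE A R := by
  obtain ⟨A, hA, h⟩ := exists_max_of (fun A : Subgroup G => A ≤ R ∧ Abelem 2 A) (fun A => #A)
    ⟨bot_le, abelem_bot 2⟩
  exact ⟨A, hA.1, hA.2, fun B h1 h2 => h B ⟨h1, h2⟩⟩

theorem MaxE.cjj (h : MaxE A R) (g : G) : MaxE (cj g A) (cj g R) :=
  ⟨cj_mono g h.le, h.ab.cj g, fun B h1 h2 => by
    rw [card_cj, ← card_cj g⁻¹]; exact h.max _ (le_cj_iff.1 h1) (h2.cj _)⟩

theorem MaxE.le_J (h : MaxE A R) : A ≤ JJ R := le_sSup h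
theorem J_le_iff : JJ R ≤ X ↔ ∀ A, MaxE A R → A ≤ X := sSup_le_iff
theorem J_le (R : Subgroup G) : JJ R ≤ R := J_le_iff.2 fun _ h => h.le

theorem normJ (h : X ≤ N[R]) : X ≤ N[JJ R] := fun g hg => mem_N_of_cj_le (cj_le_iff.2 (J_le_iff.2 fun A hA =>
  cj_le_iff.1 (by simpa [cj_of_mem_N (h hg)] using (hA.cjj g).le_J)))

theorem J_ne (h : PiG {2} R) (h1 : R ≠ ⊥) : JJ R ≠ ⊥ := fun e => by
  obtain ⟨A, hA⟩ := exists_maxE R
  have := hA.max _ (OmZ_le 2 R) (OmZ_abelem 2 R)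
  rw [show A = ⊥ from eq_bot_iff.2 (e ▸ hA.le_J), card_bot'] at this
  exact absurd (one_lt_card (h.OmZ_ne_bot h1)) (by omega)

theorem J_eq (h1 : JJ R ≤ D) (h2 : D ≤ R) : JJ D = JJ R := by
  obtain ⟨A, hA⟩ := exists_maxE R
  exact le_antisymm (J_le_iff.2 fun B hB => MaxE.le_J ⟨hB.le.trans h2, hB.ab, fun E e1 e2 =>
      (hA.max E e1 e2).trans (hB.max A (hA.le_J.trans h1) hA.ab)⟩)
    (J_le_iff.2 fun B hB => MaxE.le_J ⟨hB.le_J.trans h1, hB.ab, fun E e1 e2 => hB.max E (e1.trans h2) e2⟩)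

theorem MaxE.le_of (h : MaxE A R) (h1 : B ≤ R) (h2 : Abelem 2 B) (h3 : A ≤ C[B]) : B ≤ A :=
  le_sup_right.trans (eq_of_card_le le_sup_left (h.max _ (sup_le h.le h1) (h.ab.sup h2 h3))).ge

theorem Par.N_J (P : Par H) (hR : Syl 2 R H) (h : JJ R ≤ DD H) : N[JJ R] = H := by
  rw [← J_eq h hR.O_le]
  exact P.N_eq ((O_pig _ _).of_le (J_le _)) (J_ne (O_pig _ _) P.ne) (normJ (O_norm _ _))

theorem Par.ff_of_max (P : Par H) (hR : Syl 2 R H) (hA : MaxE A R) (n : ¬ A ≤ DD H) :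
    ∃ q, FF H q ∧ MaxE ((A ⊓ DD H) ⊔ VV H) R := by
  obtain ⟨a, h1, h3⟩ := SetLike.not_le_iff_exists.1 n
  have hq := P.card_W hR (hA.le h1) h3 (by rw [← sq, hA.ab.pow a h1]; exact one_mem _)
  set q := #(VV H ⊓ C1[a])
  have c : A ⊓ DD H ≤ C[VV H] := inf_le_right.trans P.CV.ge
  have ab := (hA.ab.of_le inf_le_left).sup (V_ab H) c
  have le : (A ⊓ DD H) ⊔ VV H ≤ R := sup_le (inf_le_left.trans hA.le) ((V_le H).trans hR.O_le)
  have c1 := (isProd_r (cents_norm c)).card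
  have c2 : #(A ⊓ DD H ⊓ VV H) ≤ q :=
    card_le (le_inf inf_le_right ((inf_le_left.trans inf_le_left).trans (hA.ab.abel.trans (C_le_C1 h1))))
  have c3 := card_inf_mul_relIndex (DD H) A
  have c4 := hA.max _ le ab
  rw [inf_comm] at c3
  have q0 : 0 < q := card_pos _
  have b0 := card_pos (A ⊓ DD H)
  have c5 : #(A ⊓ DD H) * q ≤ #((A ⊓ DD H) ⊔ VV H) := Nat.le_of_mul_le_mul_right (by
    rw [mul_assoc, ← hq, ← c1]; exact Nat.mul_le_mul_left _ c2) q0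
  have F := P.ff hq hR hA.le hA.ab (Nat.le_of_mul_le_mul_left (by rw [c3]; exact c5.trans c4) b0)
  refine ⟨q, F, le, ab, fun B b1 b2 => (hA.max B b1 b2).trans (le_trans ?_ c5)⟩
  rw [← c3, ← F.idx R hR]
  exact Nat.mul_le_mul_left _ (relIndex_le_of_le_right hA.le (relIndex_pos _ _).ne')

end Cfsg.Agent.CIT
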