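import Cfsg.Agent.CIT.C
import Cfsg.Agent.PLoc.MaxCl

/-! # CIT groups: `q = 2` or `q = 4` -/

set_option autoImplicit false
set_option linter.unusedVariables false
set_option linter.unusedSectionVars false

namespace Cfsg.Agent.CIT
open Cfsg Cfsg.Agent.BG Cfsg.Agent.Inv Cfsg.Agent.SE Subgroup
open scoped commutatorElement

variable {G : Type*} [Group G] [Finite G]
variable {A B D E H H1 H2 K L M P R R' R'' R1 R2 S S1 S2 T U V W X Y : Subgroup G}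
  {a a' b c g h k r s t u u' v w w1 w2 x y z : G} {q n m : ℕ}

theorem ncard_conj {Z : Set G} (hL : L ≤ P) (h1 : ∀ l ∈ L, ∀ z ∈ Z, l * z * l⁻¹ ∈ Z)
    (h2 : ∀ h ∈ P, ∀ z ∈ Z, h * z * h⁻¹ ∈ Z → h ∈ L) :
    {y | ∃ h ∈ P, ∃ z ∈ Z, h * z * h⁻¹ = y}.ncard * #L = #P * Z.ncard := by
  rw [← PLoc.MC.ncard_fibers (fun x : G × G => x.1 * x.2 * x.1⁻¹) ((P : Set G) ×ˢ Z)
    {y | ∃ h ∈ P, ∃ z ∈ Z, h * z * h⁻¹ = y} _ (fun s hs => ⟨s.1, hs.1, s.2, hs.2, rfl⟩), Set.ncard_prod]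
  · rfl
  rintro _ ⟨h, hh, z, hz, rfl⟩
  symm
  refine Set.ncard_congr (s := (L : Set G)) (fun l _ => (h * l, l⁻¹ * z * l)) (fun l hl => ⟨⟨mul_mem hh (hL hl), ?_⟩,
    by group⟩) (fun a b _ _ e => mul_left_cancel (congrArg Prod.fst e)) fun ⟨k, y⟩ ⟨⟨hk, hy⟩, e⟩ => ?_
  · simpa using h1 _ (inv_mem hl) z hz
  · dsimp only at hk hy e
    have e' : h⁻¹ * k * y * (h⁻¹ * k)⁻¹ = z := by
      calc _ = h⁻¹ * (k * y * k⁻¹) * h := by group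
        _ = z := by rw [e]; group
    exact ⟨h⁻¹ * k, h2 _ (mul_mem (inv_mem hh) hk) y hy (e' ▸ hz), Prod.ext (by simp) (by rw [← e']; group)⟩

theorem ncard_diff (h : A ≤ B) : ((B : Set G) \ A).ncard + #A = #B :=
  Set.ncard_diff_add_ncard_of_subset h

theorem card_trans (hL : L ≤ P) (hu : u ∈ U) (u1 : u ≠ 1) (hn : P ≤ N[U]) (h1 : L ≤ C1[u]) (h2 : P ⊓ C1[u] ≤ L)
    (h3 : ∀ v ∈ U, v ≠ 1 → ∃ h ∈ P, h * u * h⁻¹ = v) : #P + #L = #U * #L := by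
  have := ncard_conj (Z := {u}) hL (fun l hl z hz => by rw [hz, mem_C1.1 (h1 hl)]; simp)
    fun h hh z hz e => h2 ⟨hh, C1_of_conj (by rwa [hz] at e)⟩
  rw [Set.ncard_singleton, mul_one, show {y | ∃ h ∈ P, ∃ z ∈ ({u} : Set G), h * z * h⁻¹ = y} =
    (U : Set G) \ (⊥ : Subgroup G) from ?_] at this
  · rw [← this, ← ncard_diff (bot_le : ⊥ ≤ U), card_bot', add_mul, one_mul]
  · ext y
    exact ⟨fun ⟨h, hh, z, hz, e⟩ => e ▸ hz ▸ ⟨conj_mem (hn hh) hu, conj_ne u1 h⟩,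
      fun hy => (h3 y hy.1 hy.2).imp fun h hh => ⟨hh.1, u, rfl, hh.2⟩⟩

theorem FF.card_H (F : FF H q) (hR : Syl 2 R H) : #H + #R = q * q * #R := by
  obtain ⟨u, hu, u1⟩ := exists_U F.ne hR
  rw [← F.cV]
  exact card_trans hR.le hu.1 u1 (V_norm H) (le_C1_iff.2 hu.2) (F.C1_le hR hu.2 ((V_pig H).elt hu.1) u1)
    fun v hv v1 => F.conj hu.1 u1 hv v1

theorem FF.conj_B (F : FF H q) (hR : Syl 2 R H) (hu : u ∈ VV H ⊓ C[R]) (u1 : u ≠ 1) (hv : v ∈ VV H ⊓ C[R])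
    (v1 : v ≠ 1) : ∃ h ∈ H ⊓ N[R], h * u * h⁻¹ = v := by
  obtain ⟨h, hh, e⟩ := F.conj hu.1 u1 hv.1 v1
  exact ⟨h, ⟨hh, mem_N_iff_cj.2 (F.cj_eq hR hR hu u1 hh (e ▸ hv.2))⟩, e⟩

theorem norm_U : H ⊓ N[R] ≤ N[VV H ⊓ C[R]] := normI (inf_le_left.trans (V_norm H)) (normC inf_le_right)

theorem FF.card_B (F : FF H q) (hR : Syl 2 R H) : #(H ⊓ N[R]) + #R = q * #R := by
  obtain ⟨u, hu, u1⟩ := exists_U F.ne hR
  rw [← F.cU R hR]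
  exact card_trans (le_inf hR.le (normG R)) hu u1 norm_U (le_C1_iff.2 hu.2)
    ((inf_le_inf_right _ inf_le_left).trans (F.C1_le hR hu.2 ((V_pig H).elt hu.1) u1))
    fun v hv v1 => F.conj_B hR hu u1 hv v1

theorem exists_K (hR : Syl 2 R H) : ∃ K, Sdprod R K (H ⊓ N[R]) ∧ Hall {2}ᶜ K (H ⊓ N[R]) := by
  have s := hR.sub (le_inf hR.le (normG R)) inf_le_left
  obtain ⟨K, hK⟩ := s.exists_sdprod inf_le_right
  exact ⟨K, hK, hK.hall_compl s⟩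

theorem FF.sw_inv (F : FF H q) (h : Sw H R R' w) (h1 : k ∈ H) (h2 : k ∈ N[R]) (h3 : k ∈ N[R']) (hv : v ∈ VV H) :
    k * (w * v * w⁻¹) * k⁻¹ = w * (k⁻¹ * v * k) * w⁻¹ := by
  have m := conj_mem' (V_norm H h1) hv
  have e1 := F.conj_D (F.sw_sq (h.mul h1 h2 h3)) m
  have e2 := F.conj_D (F.sw_sq h) m
  calc _ = w⁻¹ * (w * k * (w * k) * (k⁻¹ * v * k) * (w * k * (w * k))⁻¹) * w := by group
    _ = w⁻¹ * (w * w * (k⁻¹ * v * k) * (w * w)⁻¹) * w := by rw [e1, e2]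
    _ = _ := by group

theorem Am.beta (e : Am H1 H2 R q) (s1 : Sw H1 R R1 w1) (s2 : Sw H2 R R2 w2) : ∃ y ∈ VV H1 ⊓ C[R],
    ∀ x ∈ VV H1 ⊓ C[R], ⁅w2 * y * w2⁻¹, w1 * x * w1⁻¹⁆ = x := by
  obtain ⟨r, hr, -, -, h⟩ := e.f1.three s1
  obtain ⟨v', hv', v, hv, rfl⟩ := e.symm.prod.ex r hr
  obtain ⟨u', hu', u, hu, rfl⟩ := (e.f2.prod_U s2.s s2.s' s2.ne).symm.ex v' hv'
  refine ⟨w2⁻¹ * u' * w2⁻¹⁻¹, e.U_eq.ge (conj_mem_U (inv_mem s2.mem) (by rw [← s2.l, cj_inv_cj]) hu'),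
    fun x hx => ?_⟩
  have m := conj_mem_U s1.mem s1.l hx
  have := h _ m
  rw [show w1 * (w1 * x * w1⁻¹) * w1⁻¹ = w1 * w1 * x * (w1 * w1)⁻¹ by group,
    e.f1.conj_D (e.f1.sw_sq s1) hx.1] at this
  have c := conj_C (e.CV.ge (mul_mem (e.U_eq.ge hu).1 hv)) m.1
  refine Eq.trans ?_ this
  rw [commutatorElement_def]
  calc _ = u' * (w1 * x * w1⁻¹) * u'⁻¹ * (w1 * x * w1⁻¹)⁻¹ := by group
    _ = u' * (u * v * (w1 * x * w1⁻¹) * (u * v)⁻¹) * u'⁻¹ * (w1 * x * w1⁻¹)⁻¹ := by rw [c]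
    _ = _ := by group

theorem Am.q_cases (e : Am H1 H2 R q) : q = 2 ∨ q = 4 := by
  obtain ⟨K, sd, hK⟩ := exists_K e.s1
  have K1 := hK.le.trans inf_le_left
  have KR := hK.le.trans inf_le_right
  have K2 : K ≤ H2 := fun k hk => e.mem_H2 (K1 hk) (KR hk)
  obtain ⟨R1, r1, n1, N1⟩ := e.f1.exists_inv_syl e.s1 K1 KR hK.pi
  obtain ⟨R2, r2, n2, N2⟩ := e.f2.exists_inv_syl e.s2 K2 KR hK.pi
  have sw : ∀ {H R' : Subgroup G}, FF H q → Syl 2 R H → Syl 2 R' H → R ≠ R' → ∃ w, Sw H R R' w :=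
    fun F hR hR' n => by
      obtain ⟨b, hb, b1⟩ := exists_U F.ne hR'
      obtain ⟨c, hc, c1⟩ := exists_U F.ne hR
      obtain ⟨-, w, -, -, -, -, sw, -⟩ := F.exists_sw hR hR' n hb b1 hc c1
      exact ⟨w, sw⟩
  obtain ⟨w1, s1⟩ := sw e.f1 e.s1 r1 n1
  obtain ⟨w2, s2⟩ := sw e.f2 e.s2 r2 n2
  obtain ⟨y, hy, h1⟩ := e.beta s1 s2
  obtain ⟨x, hx, h2⟩ := e.symm.beta s2 s1
  rw [← e.U_eq] at hx h2
  have xy : x = y := by
    have := h2 y hy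
    rw [← commutatorElement_inv, h1 x hx, V_inv hx.1] at this
    exact this
  subst xy
  have x1 : x ≠ 1 := by
    obtain ⟨u, hu, u1⟩ := exists_U e.f1.ne e.s1
    rintro rfl
    exact u1 (by simpa using (h1 u hu).symm)
  have k3 : ∀ k ∈ K, k ^ 3 = 1 := fun k hk => by
    have nU := norm_U (hK.le hk)
    have a1 := h2 _ (conj_mem' nU hx)
    have a2 := congrArg (fun g => k * g * k⁻¹) (h1 _ (conj_mem nU hx))
    simp only [conjugate_commutatorElement] at a2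
    rw [e.f1.sw_inv s1 (K1 hk) (KR hk) (N1 hk) (conj_mem nU hx).1,
      e.f2.sw_inv s2 (K2 hk) (KR hk) (N2 hk) (e.U_eq.le hx).1,
      show k⁻¹ * (k * x * k⁻¹) * k = x by group, ← commutatorElement_inv, a1,
      V_inv (conj_mem' nU hx).1] at a2
    refine e.f1.cit x _ ((V_pig _).elt hx.1) x1 ((hK.pi.elt hk).pow 3) ?_
    calc x * k ^ 3 = k * (k⁻¹ * x * k) * k * k := by rw [pow_succ, sq]; group
      _ = _ := by rw [a2, pow_succ, sq]; group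
  have cy : Cyc K := Semireg.cyc_of_pig (K := VV H1) (p := 3)
    (fun k hk k1 => e.f1.cit.inf_bot (V_pig _) (hK.pi.elt hk) k1) (odd_of_pig2 hK.pi) (V_ne e.f1.ne)
    (K1.trans (V_norm _)) (pig_of_elts fun k hk => pie_of_pow Nat.prime_three (k3 k hk))
  have c1 := Nat.le_of_dvd (by norm_num) ((⟨cy.abel, k3⟩ : Abelem 3 K).cyc_card Nat.prime_three cy)
  have c2 := e.f1.card_B e.s1
  rw [← sd.card, mul_comm q, ← mul_add_one] at c2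
  have c3 := Nat.eq_of_mul_eq_mul_left (card_pos R) c2
  have c4 := (Nat.odd_iff.1 (odd_of_pig2 hK.pi))
  omega

end Cfsg.Agent.CIT
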