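import Cfsg.Agent.CIT.A
import Cfsg.Agent.Class.Dick5
/-! CIT groups: `PSL(2,q)`, `q` odd, with 2-groups as involution centralizers. -/
set_option autoImplicit false
namespace Cfsg.Agent.CIT
open Cfsg.Agent.BG Subgroup
open scoped MatrixGroups

theorem odd_geom {x : ℤ} (hx : Odd x) (n : ℕ) : Odd (∑ i ∈ Finset.range (2 * n + 1), x ^ i) := by
  induction n with
  | zero => simp
  | succ n ih =>
    rw [show 2 * (n + 1) + 1 = 2 * n + 1 + 1 + 1 by ring, Finset.sum_range_succ, Finset.sum_range_succ, add_assoc]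
    exact ih.add_even (hx.pow.add_odd hx.pow)

theorem geom_unit {x : ℤ} (hx : Odd x) {n k : ℕ} (h : (x ^ (2 * n + 1) - 1).natAbs = 2 ^ k) :
    (x ^ (2 * n + 1) - 1).natAbs = (x - 1).natAbs := by
  rw [← geom_sum_mul, Int.natAbs_mul] at h ⊢
  rw [(Nat.Coprime.pow_right k (Nat.coprime_two_right.2 (Int.natAbs_odd.2 (odd_geom hx n)))).eq_one_of_dvd
    ⟨_, h.symm⟩, one_mul]

theorem prime_pow_cases {p f k : ℕ} (hp : p.Prime) (ho : Odd p) (hf : 0 < f)
    (h : p ^ f = 2 ^ k + 1 ∨ (p ^ f + 1 = 2 ^ k ∧ p ^ f % 4 = 3)) : p ^ f = 9 ∨ (p ^ f).Prime := by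
  have o : Odd (p : ℤ) := by exact_mod_cast ho
  have p1 := hp.one_lt
  rcases Nat.even_or_odd' f with ⟨n, rfl | rfl⟩
  · left
    have s : p ^ (2 * n) = p ^ n * p ^ n := by ring
    obtain ⟨r, hr⟩ := ho.pow (n := n)
    rw [s, hr] at h ⊢
    rcases h with h | h
    · have r0 : 0 < r := by
        have := Nat.one_lt_pow (n := n) (by omega) p1
        omega
      have e : 4 * (r * (r + 1)) = 2 ^ k := by nlinarith
      obtain ⟨a, -, h1⟩ := (Nat.dvd_prime_pow Nat.prime_two).1 (show r ∣ 2 ^ k from ⟨4 * (r + 1), by rw [← e]; ring⟩)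
      obtain ⟨b, -, h2⟩ := (Nat.dvd_prime_pow Nat.prime_two).1 (show r + 1 ∣ 2 ^ k from ⟨4 * r, by rw [← e]; ring⟩)
      rcases a with _ | a
      · rw [h1]; rfl
      rcases b with _ | b <;> simp only [pow_succ, pow_zero] at h1 h2 <;> omega
    · have : (2 * r + 1) * (2 * r + 1) = 4 * (r * r + r) + 1 := by ring
      omega
  · right
    suffices p ^ (2 * n + 1) = p by rwa [this]
    have p2 := Nat.one_le_pow (2 * n + 1) p hp.pos
    rcases h with h | h
    · have := geom_unit o (n := n) (k := k) (by rw [← Nat.cast_pow]; omega)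
      rw [← Nat.cast_pow] at this
      omega
    · have e : (-(p : ℤ)) ^ (2 * n + 1) = -((p ^ (2 * n + 1) : ℕ) : ℤ) := by
        rw [Odd.neg_pow ⟨n, rfl⟩, Nat.cast_pow]
      have := geom_unit o.neg (n := n) (k := k) (by rw [e]; omega)
      rw [e] at this
      omega

theorem psl2_odd {F : Type*} [Field F] [Fintype F] (hodd : Odd (Fintype.card F)) (h : IsCIT PSL(2, F)) :
    Fintype.card F = 9 ∨ ((Fintype.card F).Prime ∧
      ∃ k : ℕ, Fintype.card F = 2 ^ k + 1 ∨ Fintype.card F + 1 = 2 ^ k) := by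
  obtain ⟨p, _, f, hp, hf⟩ := FiniteField.card' F
  have q1 : 1 < Fintype.card F := Fintype.one_lt_card
  have g : Nat.gcd 2 (Fintype.card F - 1) = 2 := Nat.gcd_eq_left (by obtain ⟨r, hr⟩ := hodd; omega)
  have key : ∀ n, (n = Fintype.card F + 1 ∨ n = Fintype.card F - 1) → 4 ∣ n → 0 < n → ∃ k, n = 2 ^ k :=
    fun n h1 h2 h3 => by
      obtain ⟨c, -, hc, -⟩ := Class.exists_dihedral h1 (by omega)
      rw [g] at hc
      obtain ⟨k, hk⟩ := (pin_single p2 (orderOf_pos c).ne').1 ((h.elt c).resolve_right fun e => by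
        have := Nat.odd_iff.1 (pie_odd.1 e); omega)
      exact ⟨k + 1, by rw [pow_succ]; omega⟩
  have po : Odd p := (Nat.odd_pow_iff f.ne_zero).1 (hf ▸ hodd)
  obtain ⟨k, hk⟩ : ∃ k, Fintype.card F = 2 ^ k + 1 ∨ (Fintype.card F + 1 = 2 ^ k ∧ Fintype.card F % 4 = 3) := by
    have := Nat.odd_iff.1 hodd
    by_cases e : Fintype.card F % 4 = 3
    · exact (key _ (.inl rfl) (by omega) (by omega)).imp fun k hk => .inr ⟨hk, e⟩
    · exact (key _ (.inr rfl) (by omega) (by omega)).imp fun k hk => .inl (by omega)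
  refine (hf ▸ prime_pow_cases hp po f.pos (hf ▸ hk)).imp_right fun h => ⟨h, k, hk.imp_right And.left⟩

end Cfsg.Agent.CIT
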