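import Cfsg.Agent.CIT.A
import Cfsg.Agent.Dih.Rank2
import Cfsg.Agent.Dih.BSW2
/-! CIT groups: a self-centralizing four-group. -/
set_option autoImplicit false
namespace Cfsg.Agent.CIT
open Cfsg.Agent.BG Cfsg.Agent.Inv Subgroup

theorem no_index_two {G : Type*} [Group G] [IsSimpleGroup G] (hG : ∃ a b : G, a * b ≠ b * a) (M : Subgroup G) :
    M.index ≠ 2 := index_ne_two_of_simple (fun h => by
  obtain ⟨a, b, n⟩ := hG
  have : Fact (Nat.Prime 2) := ⟨p2⟩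
  exact n ((isCyclic_of_prime_card h).commGroup.mul_comm a b)) M

theorem psl2_of_four {G : Type*} [Group G] [Finite G] [IsSimpleGroup G] (hG : ∃ a b : G, a * b ≠ b * a)
    (h : IsCIT G) (V : Subgroup G) (hV : IsKleinFour V) (hC : C[V] = V) :
    ∃ (F : Type) (_ : Field F) (_ : Fintype F), Odd (Fintype.card F) ∧
      Nonempty (G ≃* Matrix.ProjectiveSpecialLinearGroup (Fin 2) F) := by
  obtain ⟨P, hP⟩ := (kf_isPGroup hV).exists_le_sylow
  have pP := pig_of_pg p2 P.isPGroup'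
  rcases Dih.max_class_sub P.isPGroup' hV hP (inf_le_right.trans hC.le) with ⟨m, hm, e⟩ | hq
  · obtain ⟨a, ha, a1, -⟩ := kf_exists_ne hV 1
    obtain ⟨t, ht, t2⟩ := PiG.exists_inv (pP.of_le inf_le_left) (pP.nil.Z_ne_bot (ne_bot_of_mem (hP ha) a1))
    have o : PLoc.pPrimeCoreOf 2 C1[t] = ⊥ := (pPrimeCore_map p2 _).trans
      (O_eq_bot (PiN.compl_compl (h.pigC1 (pie_sq (sq_of_ord2 t2)) (ne_one_of_ord2 t2))))
    exact Dih.s0508 P m hm e t t2 ht.1 (mem_C.1 ht.2) ⊥ o.symm (fun n => absurd rfl n)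
      (fun s _ n => absurd (C_bot.ge (mem_top s)) n) fun Y h1 h2 => absurd (eq_bot_iff.2 h1) h2
  · obtain ⟨x, y, l, hq⟩ := exists_QD hq
    obtain ⟨Q, -, ⟨e⟩, g, g1, g2, g3⟩ := (hq.fus_of_no_index_two (no_index_two hG)).2
    obtain ⟨z, hz⟩ := exists_Q8 e
    obtain ⟨i, hi, -, -, i2, -⟩ := hz.exists_pair
    have z2 : orderOf z = 2 := by rw [← i2, ← sq, orderOf_pow, hz.ord4 i2]; rfl
    rw [h z g (pie_sq (sq_of_ord2 z2)) (ne_one_of_ord2 z2) (pie_odd.2 g2)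
      (mul_inv_eq_iff_eq_mul.1 (hz.conj_z g1)).symm] at g3
    exact absurd (one_mem _) g3

end Cfsg.Agent.CIT
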