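import Cfsg.Agent.CIT.A
import Cfsg.Agent.SE.Fin
import Cfsg.Agent.BG.CN
/-! CIT groups: the strongly embedded case, and simple CN-groups are CIT-groups. -/
set_option autoImplicit false
namespace Cfsg.Agent.CIT
open Cfsg.Agent.BG Cfsg.Agent.Inv Cfsg.Agent.SE Subgroup

variable {G : Type*} [Group G] [Finite G] [IsSimpleGroup G] {H : Subgroup G}

theorem se_case (h : IsCIT G) (hH : Cfsg.IsStronglyEmbedded H) :
    (∃ (F : Type) (_ : Field F) (_ : Fintype F), (∃ n : ℕ, Fintype.card F = 2 ^ n) ∧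
      Nonempty (G ≃* Matrix.ProjectiveSpecialLinearGroup (Fin 2) F)) ∨ Cfsg.IsSuzuki G := by
  obtain ⟨h2, t, Q, S⟩ := r1_se hH
  have := faithful_quot hH.1
  obtain ⟨h1, h' | ⟨h3, h' | ⟨-, -, w, hw, h4, u, -, h5⟩⟩⟩ := S.isTT h2
  · obtain ⟨F, _, _, ⟨n, -, a⟩, b⟩ := S.psl_a h2 h'
    exact .inl ⟨F, _, _, ⟨n, a⟩, b⟩
  · obtain ⟨Z, e⟩ := S.zass h2 (S.K_eq_b h2 h1 h3 (S.n2_eq h2 ▸ h'))
    exact .inr (zas_isSuzuki Z (e ▸ h1) (e ▸ h3))
  · obtain ⟨x, hx, -, -, x2, -⟩ := S.exists_four h2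
    rw [h x w (pie_sq (sq_of_ord2 x2)) (ne_one_of_ord2 x2) (pie_odd.2 (S.oddD hw))
      (h4 x hx (sq_of_ord2 x2)).symm] at h5
    simp at h5

theorem se_of_ti {π : Set ℕ} (h2 : 2 ∈ π) (hH : Hall π H ⊤) (h1 : H ≠ ⊤) (he : Even #H)
    (ti : ∀ g, H ⊓ cj g H ≠ ⊥ → cj g H = H) : Cfsg.IsStronglyEmbedded N[H] := by
  have m : ∀ t ∈ N[H], orderOf t = 2 → t ∈ H := fun t ht t2 => (hH.sub (normG H) le_top).mem_of_normal le_rfl
    (PiN.single_mono (pie_sq (sq_of_ord2 t2)) h2) ht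
  refine se_iff.2 ⟨fun e => ?_, he.trans_dvd (cardS (normG H)), fun t ht t2 g hg => mem_N_iff_cj.2 (ti g
    (ne_bot_of_mem ⟨m _ hg (ord_conj t2 g), mem_cj_conj.2 (m t ht t2)⟩ (ne_one_of_ord2 (ord_conj t2 g))))⟩
  rcases (normal_iff.2 e.ge).eq_bot_or_eq_top with h | h
  · rw [h, card_bot'] at he; simp at he
  · exact h1 h

theorem not_nil_top (hG : ∃ a b : G, a * b ≠ b * a) : ¬ Nil (⊤ : Subgroup G) := fun h => by
  obtain ⟨a, b, n⟩ := hG
  rcases (normal_iff.2 (normZ (normG (⊤ : Subgroup G)))).eq_bot_or_eq_top with e | e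
  · exact h.Z_ne_bot top_ne_bot e
  · exact n (mem_C.1 (e.ge (mem_top b)).2 a (mem_top a))

theorem cit_of_cn (hG : ∃ a b : G, a * b ≠ b * a) (hCN : Cfsg.IsCNGroup G) : IsCIT G := by
  intro x y hx x1 hy e
  obtain ⟨H, l, hH, hm⟩ := exists_maximal (P := Nil) (A := C1[x]) (hCN x x1)
  have xH := l (mem_C1_self x)
  have yH := l (mem_C1.2 e.symm)
  have d2 := (hx.dvd x1).trans (orderOf_dvd xH)
  by_contra y1
  have S := se_of_ti (π := {p | p ∣ #H}) d2 (hall_of_coprime le_top (by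
    rw [relIndex_top_right]; exact CN.max_hall hCN hH hm)) (fun e => not_nil_top hG (e ▸ hH))
    (even_iff_two_dvd.2 d2) fun g hg => by
      by_contra n
      refine hg (CN.max_ti hCN hH hm (fun h => ?_) n)
      obtain ⟨p, k, hp, -, hk⟩ := (isPrimePow_nat_iff _).1 h
      obtain rfl := (Nat.prime_dvd_prime_iff_eq p2 hp).1 (p2.dvd_of_dvd_pow (hk ▸ d2))
      exact y1 (((pig_of_card_pow p2 hk.symm).elt yH).eq_one hy)
  obtain ⟨h4, t, Q, R⟩ := r1_se S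
  have := faithful_quot S.1
  exact y1 ((r1_odd_eq_bot R h4 (odd_of_pig2 (O_pig _ H)) (by rw [st_one]; exact (O_le _ _).trans (normG H))
    (by rw [st_one]; exact normO _ le_rfl)).le (hH.mem_O yH hy))

end Cfsg.Agent.CIT
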