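import Cfsg.Agent.CIT.E3
import Cfsg.Agent.CIT.Q
import Cfsg.Agent.CIT.X1
import Cfsg.Agent.CIT.X2
import Cfsg.Agent.CIT.X4
/-! Suzuki's classification of simple CIT-groups. -/
set_option autoImplicit false
namespace Cfsg.Agent.CIT
open Cfsg.Agent.BG Cfsg.Agent.Inv Subgroup

theorem cit_class {G : Type*} [Group G] [Finite G] [IsSimpleGroup G] (hG : ∃ a b : G, a * b ≠ b * a) (h : IsCIT G) :
    (∃ (F : Type) (_ : Field F) (_ : Fintype F),
        (Fintype.card F = 9 ∨ (∃ n : ℕ, Fintype.card F = 2 ^ n) ∨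
          ((Fintype.card F).Prime ∧ ∃ k : ℕ, Fintype.card F = 2 ^ k + 1 ∨ Fintype.card F + 1 = 2 ^ k)) ∧
        Nonempty (G ≃* Matrix.ProjectiveSpecialLinearGroup (Fin 2) F)) ∨
    (∃ (F : Type) (_ : Field F) (_ : Fintype F), Fintype.card F = 4 ∧
        Nonempty (G ≃* Matrix.ProjectiveSpecialLinearGroup (Fin 3) F)) ∨
    Cfsg.IsSuzuki G := by
  have nt : ∀ {X : Subgroup G}, PiG {2} X → X ≠ ⊤ := fun p e => not_nil_top hG (e ▸ p.nil)
  obtain ⟨S, hS⟩ := syl_exists p2 (⊤ : Subgroup G)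
  by_cases ti : ∀ g, S ⊓ cj g S ≠ ⊥ → cj g S = S
  · have ev : Even (Nat.card G) := PF.even_of_simple fun s => hG.elim fun a h => h.elim fun b n => n (s a b)
    refine (se_case h (se_of_ti (π := {2}) rfl hS (nt hS.pi) (even_iff_two_dvd.2 (hS.dvd p2 rfl
      (by rw [card_top]; exact ev.two_dvd))) ti)).imp (fun ⟨F, _, _, a, b⟩ => ⟨F, _, _, .inr (.inl a), b⟩) .inr
  push Not at ti
  obtain ⟨g, n1, n2⟩ := ti
  obtain ⟨H1, H2, R, q, e⟩ := exists_am h h.la ((BG.normal_iff.2 (normO _ (normG ⊤))).eq_bot_or_eq_top.resolve_right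
    (nt (O_pig _ _))) hS (hS.cj_top g) n2.symm n1
  rcases e.q_cases with rfl | rfl
  · obtain ⟨F, _, _, o, ⟨f⟩⟩ := psl2_of_four hG h _ (kf_of_card e.f1.cV fun _ => V_sq) e.CV
    refine .inl ⟨F, _, _, (psl2_odd o (h.im (tot f.toMonoidHom) ?_ ?_)).imp_right .inr, ⟨f⟩⟩
    · rw [tot_ker, (MonoidHom.ker_eq_bot_iff _).2 f.injective]; exact pig_bot _
    · rw [tot_im, tot_dom]; exact map_top_of_surjective _ f.surjective
  · exact .inr (.inl (e.psl3 (e.syl (no_index_two hG))))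

end Cfsg.Agent.CIT
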